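import Cfsg.Agent.Lib.ChevStr.Bruhat
import Cfsg.Agent.Lib.ChevStr.RankOne

/-!
# The centraliser of a regular torus element

If no root takes the value one at the torus element `h` and only the trivial element of the Weyl
group preserves the values of all roots at `h`, then the centraliser of `h` in the Chevalley group
is the torus.
-/

set_option autoImplicit false

namespace CfsgLib.RegTorus

open Cfsg.Lie CfsgLib.ChevStr CfsgLib.ChevStr.ChevCore
open scoped MatrixGroups

variable {D : ChevalleyDatum} {F : Type*} [Field F] (C : ChevCore D F)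

/-- The value of the root `r` at a tuple, as an element of the field. -/
def rootVal (c : Fin D.rank → Fˣ) (r : ℕ) : F := (C.R.torusChar c (C.R.α r) : F)

theorem torus_word (c : Fin D.rank → Fˣ) : ∀ {L : List ℕ}, (∀ r ∈ L, r < D.nroots) → ∀ t : ℕ → F,
    C.R.torus c * C.word L t * (C.R.torus c)⁻¹ = C.word L (fun r => rootVal C c r * t r) := by
  intro L
  induction L with
  | nil => intro _ t; simp [C.word_nil]
  | cons k L ih =>
    intro hL t
    have hk : k < D.nroots := hL k (List.mem_cons_self ..)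
    rw [C.word_cons, C.word_cons, ← ih (fun r hr => hL r (List.mem_cons_of_mem _ hr)) t,
      show C.xGL k (rootVal C c k * t k) = _ from (C.acts_torus c ⟨k, hk⟩ (t k)).symm]
    group

/-- A positive unipotent element commuting with a torus element without root value one is trivial. -/
theorem eq_one_of_commute {c : Fin D.rank → Fˣ} (hreg : ∀ r < D.nroots, rootVal C c r ≠ 1)
    {u : GL D.Idx F} (hu : u ∈ D.posUnipotent F) (hcomm : Commute (C.R.torus c) u) : u = 1 := by
  classical
  have hset := C.setOf_mem_rootList (S := {r | D.IsPosRoot r}) fun r hr => hr.1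
  have hp : (C.rootList {r | D.IsPosRoot r}).Pairwise (· < ·) := ChevCore.sorted_filter _
  have hpos : ∀ r ∈ C.rootList {r | D.IsPosRoot r}, D.IsPosRoot r := fun r hr => by
    have h : r ∈ {r | r ∈ C.rootList {r | D.IsPosRoot r}} := hr
    rw [hset] at h
    exact h
  rw [C.posUnipotent_eq, ← hset] at hu
  obtain ⟨t, rfl⟩ := C.exists_word hp (by rw [hset]; exact C.R.isClosed_pos) u hu
  have h1 := torus_word C c (fun r hr => (hpos r hr).1) t
  rw [hcomm.eq, mul_inv_cancel_right] at h1
  have h2 := C.word_injective hp hpos _ _ h1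
  have h0 : ∀ r ∈ C.rootList {r | D.IsPosRoot r}, t r = (fun _ => (0 : F)) r := fun r hr => by
    by_contra hne
    exact hreg r (hpos r hr).1 (mul_right_cancel₀ hne ((h2 r hr).symm.trans (one_mul _).symm))
  rw [C.word_congr h0]
  refine List.prod_eq_one fun x hx => ?_
  obtain ⟨p, hp', rfl⟩ := List.mem_map.1 hx
  obtain ⟨r, -, rfl⟩ := List.mem_map.1 hp'
  exact C.xGL_zero r

/-- A monomial element centralising a torus element preserves the root values at it. -/
theorem rootVal_weyl {c : Fin D.rank → Fˣ} {n : GL D.Idx F} (hn : n ∈ D.monomialSubgroup F)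
    {w : Equiv.Perm (Fin D.nroots)} (hw : C.Moves n w) (hcomm : Commute (C.R.torus c) n)
    (s : Fin D.nroots) : rootVal C c (w s) = rootVal C c s := by
  obtain ⟨m, hm, hact⟩ := C.exists_rep hw.1
  have hd : m⁻¹ * n ∈ D.diagonalSubgroup F := by
    refine C.mem_diagonal_of_moves_one (mul_mem (inv_mem (C.rep_mem_monomial hm)) hn) ?_
    have h := ChevCore.Moves.mul C (ChevCore.Acts.moves C (ChevCore.Acts.inv C hact)) hw
    rwa [inv_mul_cancel] at h
  rw [C.diagonalSubgroup_eq] at hd
  obtain ⟨d, hd⟩ := hd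
  have hdc : Commute (C.R.torus c) (C.R.torus d) := by
    rw [Commute, SemiconjBy, ← map_mul, ← map_mul, mul_comm]
  have hmc : Commute (C.R.torus c) m := by
    have : m = n * (C.R.torus d)⁻¹ := by rw [hd]; group
    rw [this]
    exact hcomm.mul_right hdc.inv_right
  obtain ⟨-, e, he⟩ := hact
  obtain ⟨h1, -, h3⟩ := he s
  have h4 := C.acts_torus c (w s) ((e s : F) * 1)
  rw [← h3 1] at h4
  have h5 : C.R.torus c * (m * C.xGL s 1 * m⁻¹) * (C.R.torus c)⁻¹ =
      m * (C.R.torus c * C.xGL s 1 * (C.R.torus c)⁻¹) * m⁻¹ :=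
    calc _ = C.R.torus c * m * C.xGL s 1 * (C.R.torus c * m)⁻¹ := by group
      _ = m * C.R.torus c * C.xGL s 1 * (m * C.R.torus c)⁻¹ := by rw [hmc.eq]
      _ = _ := by group
  rw [h5, C.acts_torus c s 1, h3] at h4
  have h6 := C.xGL_injective (w s).isLt h4
  have he0 : (e s : F) ≠ 0 := by rcases h1 with h | h <;> simp [h]
  show (C.R.torusChar c (C.R.α (w s)) : F) = C.R.torusChar c (C.R.α s)
  rw [mul_one, mul_one, mul_comm] at h6
  exact (mul_right_cancel₀ he0 h6).symm

/-- The centraliser of a regular torus element is the torus. -/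
theorem mem_torus_of_commute {c : Fin D.rank → Fˣ} (hreg : ∀ r < D.nroots, rootVal C c r ≠ 1)
    (hstab : ∀ w ∈ C.hR.weyl, (∀ s : Fin D.nroots, rootVal C c (w s) = rootVal C c s) → w = 1)
    {g : GL D.Idx F} (hg : g ∈ D.group F) (hcomm : Commute (C.R.torus c) g) :
    ∃ d, C.R.torus d = g := by
  obtain ⟨w, hwW, b, hb, n, hn, hw, u, hu, rfl⟩ := C.normalForm_exists hg
  set h := C.R.torus c with hh
  have hnh : n * h * n⁻¹ ∈ C.R.torus.range :=
    (Subgroup.mem_normalizer_iff.1 (C.monomial_le_normalizer hn) h).1 ⟨c, rfl⟩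
  obtain ⟨c', hc'⟩ := hnh
  have hu' : h⁻¹ * u * h ∈ C.Ucl (C.hR.invRoots w) := by
    have hnorm := C.torus_normalizes (C.hR.invRoots w) (show C.R.torus c⁻¹ ∈ (C.R.torus (F := F)).range from ⟨c⁻¹, rfl⟩)
    have h1 := (Subgroup.mem_normalizer_iff.1 hnorm u).1 hu
    rwa [map_inv, inv_inv] at h1
  have heq : h * b * n * u = b * (n * h * n⁻¹) * n * (h⁻¹ * u * h) :=
    calc h * b * n * u = h * (b * n * u) := by group
      _ = b * n * u * h := hcomm.eq
      _ = _ := by group
  obtain ⟨-, -, huniq⟩ := C.normalForm_unique (mul_mem (C.torus_mem_borel c) hb)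
    (mul_mem hb (hc' ▸ C.torus_mem_borel c')) hn hn hw hw hu hu' heq
  obtain ⟨hbb, huu⟩ := huniq rfl
  have hupos : u ∈ D.posUnipotent F := by
    rw [C.posUnipotent_eq]
    exact C.Ucl_mono (fun r hr => (C.hR.invRoots_closed hw.1).1 r hr) hu
  have hcu : Commute h u := by
    show h * u = u * h
    calc h * u = h * (h⁻¹ * u * h) := by rw [← huu]
      _ = u * h := by group
  have hu1 := eq_one_of_commute C hreg hupos hcu
  obtain ⟨v, hv, d, hbd⟩ := C.mem_borel.1 hb
  have hvh : h * v * h⁻¹ ∈ D.posUnipotent F :=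
    (Subgroup.mem_normalizer_iff.1 (C.diagonal_normalizes_pos
      (by rw [C.diagonalSubgroup_eq]; exact ⟨c, rfl⟩)) v).1 hv
  have hsplit : v⁻¹ * (h * v * h⁻¹) = C.R.torus (d * c' * d⁻¹ * c⁻¹) := by
    rw [hbd, ← hc'] at hbb
    rw [map_mul, map_mul, map_mul, map_inv, map_inv, ← hh]
    calc v⁻¹ * (h * v * h⁻¹) = v⁻¹ * (h * (v * C.R.torus d)) * (C.R.torus d)⁻¹ * h⁻¹ := by group
      _ = v⁻¹ * (v * C.R.torus d * C.R.torus c') * (C.R.torus d)⁻¹ * h⁻¹ := by rw [hbb]
      _ = _ := by group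
  have h1 : v⁻¹ * (h * v * h⁻¹) = 1 :=
    (Subgroup.eq_bot_iff_forall _).1 C.posUnipotent_inf_diagonal _
      (Subgroup.mem_inf.2 ⟨mul_mem (inv_mem hv) hvh,
        by rw [hsplit, C.diagonalSubgroup_eq]; exact ⟨_, rfl⟩⟩)
  have hhv : Commute h v := by
    show h * v = v * h
    have h2 : h * v * h⁻¹ = v := (inv_mul_eq_one.1 h1).symm
    conv_rhs => rw [← h2]
    group
  have hv1 := eq_one_of_commute C hreg hv hhv
  subst hu1 hv1
  rw [one_mul] at hbd
  subst hbd
  rw [mul_one] at hcomm ⊢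
  have hcd : Commute h (C.R.torus d) := by
    rw [hh, Commute, SemiconjBy, ← map_mul, ← map_mul, mul_comm]
  have hcn : Commute h n := by
    have h2 := hcd.inv_right.mul_right hcomm
    rwa [inv_mul_cancel_left] at h2
  have hw1 := hstab w hw.1 (rootVal_weyl C hn hw hcn)
  subst hw1
  have hnd := C.mem_diagonal_of_moves_one hn hw
  rw [C.diagonalSubgroup_eq] at hnd
  obtain ⟨d', rfl⟩ := hnd
  exact ⟨d * d', map_mul _ _ _⟩

/-- Extensionality for homomorphisms out of `SL₂`. -/
theorem slHom_ext {G : Type*} [Group G] {φ ψ : Matrix.SpecialLinearGroup (Fin 2) F →* G}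
    (hx : ∀ t, φ (slX t) = ψ (slX t)) (hy : ∀ t, φ (slY t) = ψ (slY t)) : φ = ψ :=
  MonoidHom.ext <| sl_decomp (fun g => φ g = ψ g) hx hy fun g h hg hh => by rw [map_mul, map_mul, hg, hh]

theorem slHom_mem {G : Type*} [Group G] {φ : Matrix.SpecialLinearGroup (Fin 2) F →* G}
    {S : Subgroup G} (hx : ∀ t, φ (slX t) ∈ S) (hy : ∀ t, φ (slY t) ∈ S) (g) : φ g ∈ S :=
  sl_decomp (fun g => φ g ∈ S) hx hy (fun g h hg hh => by rw [map_mul]; exact mul_mem hg hh) g

end CfsgLib.RegTorus
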