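import Cfsg.Agent.Lib.RegTorus.WeylEigen

/-!
# Commuting elements of prime orders and characteristic polynomials of Weyl group elements
-/

set_option autoImplicit false

namespace CfsgLib.RegTorus

open Cfsg.Lie CfsgLib.ChevStr CfsgLib.ChevField CfsgLib.CycTorus Matrix
open scoped MatrixGroups

variable {D : ChevalleyDatum} {F K : Type*} [Field F] [Fintype F] [Field K] [Fintype K]

/-- The index of the torus is prime to a prime dividing `|K| - 1` and prime to the degrees. -/
theorem torus_index_not_dvd (C : ChevCore D K) {N : Matrix (Fin D.rank) (Fin D.rank) ℤ}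
    (hNM : N * cartanMat D = 1) {N₀ : ℕ} {degs : List ℕ} (hlen : degs.length = D.rank)
    (hcard : Nat.card (D.group K) =
      Fintype.card K ^ N₀ * (degs.map fun e => Fintype.card K ^ e - 1).prod)
    {r : ℕ} (hr : r.Prime) (hrQ : r ∣ Fintype.card K - 1) (hdeg : ∀ e ∈ degs, ¬ r ∣ e) :
    ¬ r ∣ ((C.R.torus (F := K)).codRestrict (D.group K)
      fun c => C.borel_le_group (C.torus_mem_borel c)).range.index := by
  set Q := Fintype.card K with hQdef
  have hQ : 1 < Q := Fintype.one_lt_card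
  set T := ((C.R.torus (F := K)).codRestrict (D.group K)
    fun c => C.borel_le_group (C.torus_mem_borel c)) with hT
  have htinj : Function.Injective T := fun a b h => torus_injective C hNM (congrArg Subtype.val h)
  have hcardT : Nat.card T.range = (Q - 1) ^ D.rank := by
    rw [← Nat.card_congr (MonoidHom.ofInjective htinj).toEquiv, Nat.card_pi, Finset.prod_const,
      Finset.card_univ, Fintype.card_fin, Nat.card_units, Nat.card_eq_fintype_card]
  obtain ⟨g, hg, hgr⟩ := exists_prod_geom hQ.le hr hrQ degs hdeg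
  have h1 := T.range.card_mul_index
  rw [hcardT, hcard, hg, hlen] at h1
  have h2 : T.range.index = Q ^ N₀ * g := by
    refine Nat.eq_of_mul_eq_mul_left (pow_pos (show 0 < Q - 1 by omega) D.rank) ?_
    rw [h1]; ring
  rw [h2, hr.dvd_mul, not_or]
  refine ⟨fun h => ?_, hgr⟩
  have h3 := hr.dvd_of_dvd_pow h
  have h4 : r ∣ Q - (Q - 1) := Nat.dvd_sub h3 hrQ
  rw [Nat.sub_sub_self hQ.le] at h4
  exact hr.not_dvd_one h4

/-- Both primes of a commuting pair of elements divide the value at `q` of one characteristic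
polynomial: the larger prime is regular, or both are prime to the degrees. -/
theorem exists_weyl_dvd_pair (C : ChevCore D K) (ι : F →+* K) (σ : K ≃+* K) {q : ℕ}
    (hσ : ∀ x, σ x = x ^ q) (hσι : ∀ a, σ (ι a) = ι a) {N : Matrix (Fin D.rank) (Fin D.rank) ℤ}
    (hNM : N * cartanMat D = 1) {N₀ : ℕ} {degs : List ℕ} (hlen : degs.length = D.rank)
    (hcard : Nat.card (D.group K) =
      Fintype.card K ^ N₀ * (degs.map fun e => Fintype.card K ^ e - 1).prod)
    {r s : ℕ} [Fact r.Prime] [Fact s.Prime] (hsQ : s ∣ Fintype.card K - 1)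
    (hsdeg : ∀ e ∈ degs, ¬ s ∣ e) {x y : ↥(D.group F)} (hx : orderOf x = s) (hy : orderOf y = r)
    (hxy : x * y = y * x)
    (hcase : (r ∣ Fintype.card K - 1 ∧ ∀ e ∈ degs, ¬ r ∣ e) ∨
      ((orderOf ((q : ℤ) : ZMod s)).totient = D.rank ∧ ¬ s ∣ Nat.card C.hR.weyl)) :
    ∃ w ∈ C.hR.weyl,
      (s : ℤ) ∣ ((q : ℤ) • (1 : Matrix (Fin D.rank) (Fin D.rank) ℤ) - wMat C.R w).det ∧
        (r : ℤ) ∣ ((q : ℤ) • (1 : Matrix (Fin D.rank) (Fin D.rank) ℤ) - wMat C.R w).det := by
  classical
  let G := D.group K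
  have htG : ∀ c, C.R.torus c ∈ G := fun c => C.borel_le_group (C.torus_mem_borel c)
  let tG : (Fin D.rank → Kˣ) →* G := (C.R.torus).codRestrict G htG
  have htinj : Function.Injective tG := fun a b h => torus_injective C hNM (congrArg Subtype.val h)
  let inc : ↥(D.group F) →* G := (Subgroup.inclusion (group_map_le ι)).comp ((mapGL ι).subgroupMap (D.group F))
  have hinc : Function.Injective inc := fun a b h =>
    Subtype.ext (mapGL_injective ι (congrArg Subtype.val h))
  have hincv : ∀ z, (inc z : GL D.Idx K) = mapGL ι (z : GL D.Idx F) := fun _ => rfl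
  have hcomm : inc x * inc y = inc y * inc x := by rw [← map_mul, ← map_mul, hxy]
  have hidxs := torus_index_not_dvd C hNM hlen hcard (Fact.out : s.Prime) hsQ hsdeg
  have hσt : ∀ c : Fin D.rank → Kˣ, mapGL σ.toRingHom (C.R.torus c) = C.R.torus (c ^ q) := fun c => by
    rw [mapGL_torus]
    congr 1
    funext k
    exact Units.ext (by simpa using hσ (c k : K))
  have hσF : ∀ z : GL D.Idx F, mapGL σ.toRingHom (mapGL ι z) = mapGL ι z := fun z => by
    refine Units.ext ?_
    rw [coe_mapGL, coe_mapGL, Matrix.map_map]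
    exact congrArg _ (funext hσι)
  have hord : ∀ (z : ↥(D.group F)) (g : G) (c : Fin D.rank → Kˣ) (o : ℕ), o ≠ 1 → orderOf z = o →
      tG c = g * inc z * g⁻¹ → c ^ o = 1 ∧ ∃ v, C.R.torusChar c v ≠ 1 := by
    intro z g c o ho1 hz hc
    have ho : orderOf (inc z) = o := by rw [orderOf_injective inc hinc, hz]
    refine ⟨htinj ?_, ?_⟩
    · rw [map_pow, hc, conj_pow, map_one, ← ho, pow_orderOf_eq_one, mul_one, mul_inv_cancel]
    · by_contra h
      push Not at h
      have hc1 : c = 1 := eq_of_torusChar C hNM fun v => by rw [h]; simp [RootData.torusChar]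
      rw [hc1, map_one, eq_comm, conj_eq_one_iff] at hc
      rw [hc, orderOf_one] at ho
      exact ho1 ho.symm
  have htwist : ∀ (g : G) (z : ↥(D.group F)) (c : Fin D.rank → Kˣ), tG c = g * inc z * g⁻¹ →
      mapGL σ.toRingHom (g : GL D.Idx K) * (g : GL D.Idx K)⁻¹ * C.R.torus c *
        (mapGL σ.toRingHom (g : GL D.Idx K) * (g : GL D.Idx K)⁻¹)⁻¹ = C.R.torus (c ^ q) := by
    intro g z c hc
    have h : C.R.torus c = (g : GL D.Idx K) * mapGL ι (z : GL D.Idx F) * (g : GL D.Idx K)⁻¹ :=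
      congrArg Subtype.val hc
    rw [← hσt, h, map_mul, map_mul, map_inv, hσF]
    group
  have hnG : ∀ g : G, mapGL σ.toRingHom (g : GL D.Idx K) * (g : GL D.Idx K)⁻¹ ∈ D.group K := fun g =>
    mul_mem (group_map_le σ.toRingHom ⟨g, g.2, rfl⟩) (inv_mem g.2)
  suffices h : ∃ (g : G) (a b : Fin D.rank → Kˣ), tG a = g * inc x * g⁻¹ ∧ tG b = g * inc y * g⁻¹ by
    obtain ⟨g, a, b, ha, hb⟩ := h
    obtain ⟨w, hw, hwa, hwb⟩ := exists_weyl_eigen C (hnG g) q (htwist g x a ha) (htwist g y b hb)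
    obtain ⟨ha1, ha2⟩ := hord x g a s (Fact.out : s.Prime).ne_one hx ha
    obtain ⟨hb1, hb2⟩ := hord y g b r (Fact.out : r.Prime).ne_one hy hb
    exact ⟨w, hw, dvd_det_of_eigen C ha1 ha2 hwa, dvd_det_of_eigen C hb1 hb2 hwb⟩
  have hxi : orderOf (inc x) = s := by rw [orderOf_injective inc hinc, hx]
  rcases hcase with ⟨hrQ, hrdeg⟩ | ⟨hl, hsW⟩
  · obtain ⟨g, ⟨a, ha⟩, b, hb⟩ := exists_conj_pair (T := tG.range)
      (by rintro _ ⟨a, rfl⟩ _ ⟨b, rfl⟩; rw [← map_mul, ← map_mul, mul_comm])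
      (torus_index_not_dvd C hNM hlen hcard (Fact.out : r.Prime) hrQ hrdeg) hidxs hxi
      (show orderOf (inc y) = r by rw [orderOf_injective inc hinc, hy]) hcomm
    exact ⟨g, a, b, ha, hb⟩
  · obtain ⟨g, a, ha⟩ := exists_conj_mem_of_prime (T := tG.range) hidxs hxi
    obtain ⟨ha1, ha2⟩ := hord x g a s (Fact.out : s.Prime).ne_one hx ha
    obtain ⟨w, hw, hwa, -⟩ := exists_weyl_eigen C (hnG g) q (htwist g x a ha) (htwist g x a ha)
    have hd : 0 < orderOf ((q : ℤ) : ZMod s) := by
      rcases Nat.eq_zero_or_pos (orderOf ((q : ℤ) : ZMod s)) with h | h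
      · obtain ⟨v, hv⟩ := ha2
        rcases Nat.eq_zero_or_pos D.rank with h0 | h0
        · refine absurd ?_ hv
          exact Finset.prod_eq_one fun i _ => absurd i.isLt (by omega)
        · rw [h, Nat.totient_zero] at hl; omega
      · exact h
    obtain ⟨hreg, hfree⟩ := regular_of_eigen C (Fact.out : s.Prime) hd hl rfl hsW ha1 ha2
      (w := w⁻¹) (by rwa [inv_inv]) (by rwa [inv_inv])
    have hda : (g * inc y * g⁻¹ : G) * tG a = tG a * (g * inc y * g⁻¹) := by
      rw [ha, show g * inc y * g⁻¹ * (g * inc x * g⁻¹) = g * (inc y * inc x) * g⁻¹ by group,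
        ← hcomm]
      group
    have hdiag := mem_diagonal_of_commute C hreg hfree (g * inc y * g⁻¹ : G).2
      (congrArg Subtype.val hda)
    rw [C.diagonalSubgroup_eq] at hdiag
    obtain ⟨b, hb⟩ := hdiag
    exact ⟨g, a, b, ha, Subtype.ext hb⟩

end CfsgLib.RegTorus
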