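import Cfsg.Agent.Lib.CycTorus.Main

/-!
# Weyl group eigencharacters of commuting elements of prime order

Commuting elements of prime orders of a Chevalley group over a finite field become simultaneously
toral over a suitable extension; the Frobenius then acts on both through one Weyl group element, so
both primes divide the value at `q` of one characteristic polynomial.
-/

set_option autoImplicit false

namespace CfsgLib.RegTorus

open Cfsg.Lie CfsgLib.ChevStr CfsgLib.ChevField CfsgLib.CycTorus Matrix Polynomial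
open scoped MatrixGroups

/-- An element of prime order is conjugate into any subgroup of index prime to it. -/
theorem exists_conj_mem_of_prime {G : Type*} [Group G] [Finite G] {r : ℕ} [Fact r.Prime]
    {T : Subgroup G} (hT : ¬ r ∣ T.index) {x : G} (hx : orderOf x = r) :
    ∃ g : G, g * x * g⁻¹ ∈ T := by
  classical
  obtain ⟨P⟩ : Nonempty (Sylow r T) := inferInstance
  let P' : Subgroup G := (P : Subgroup T).map T.subtype
  have hP' : IsPGroup r P' := P.isPGroup'.map _
  have hP'i : ¬ r ∣ P'.index := by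
    rw [Subgroup.index_map_subtype, (Fact.out : r.Prime).dvd_mul, not_or]
    exact ⟨P.not_dvd_index, hT⟩
  let S : Sylow r G := hP'.toSylow hP'i
  obtain ⟨Q, hQ⟩ := (IsPGroup.of_card (n := 1) (p := r)
    (show Nat.card (Subgroup.zpowers x) = r ^ 1 by
      rw [Nat.card_zpowers, hx, pow_one])).exists_le_sylow
  obtain ⟨g, hg⟩ := MulAction.exists_smul_eq G Q S
  refine ⟨g, Subgroup.map_subtype_le (P : Subgroup T) ?_⟩
  show g * x * g⁻¹ ∈ (S : Subgroup G)
  rw [← hg, Sylow.coe_subgroup_smul]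
  exact Subgroup.smul_mem_pointwise_smul x (MulAut.conj g) _ (hQ (Subgroup.mem_zpowers _))

/-- Commuting elements of prime orders are simultaneously conjugate into an abelian subgroup of index
prime to both. -/
theorem exists_conj_pair {G : Type*} [Group G] [Finite G] {r s : ℕ} [Fact r.Prime] [Fact s.Prime]
    {T : Subgroup G} (hab : ∀ a ∈ T, ∀ b ∈ T, a * b = b * a) (hTr : ¬ r ∣ T.index)
    (hTs : ¬ s ∣ T.index) {x y : G} (hx : orderOf x = s) (hy : orderOf y = r)
    (hxy : x * y = y * x) : ∃ g : G, g * x * g⁻¹ ∈ T ∧ g * y * g⁻¹ ∈ T := by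
  obtain ⟨g, hg⟩ := exists_conj_mem_of_prime hTs hx
  set Z := Subgroup.centralizer ({g * x * g⁻¹} : Set G) with hZ
  have hTZ : T ≤ Z := fun t ht => Subgroup.mem_centralizer_singleton_iff.2 (hab t ht _ hg)
  have hyZ : g * y * g⁻¹ ∈ Z := Subgroup.mem_centralizer_singleton_iff.2 (by
    rw [show g * y * g⁻¹ * (g * x * g⁻¹) = g * (y * x) * g⁻¹ by group, ← hxy]
    group)
  have hidx : ¬ r ∣ (T.subgroupOf Z).index := fun h =>
    hTr (h.trans ⟨Z.index, (Subgroup.relIndex_mul_index hTZ).symm⟩)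
  obtain ⟨h, hh⟩ := exists_conj_mem_of_prime hidx
    (x := (⟨g * y * g⁻¹, hyZ⟩ : Z)) (by
      rw [← Subgroup.orderOf_coe]
      exact (orderOf_injective (MulAut.conj g).toMonoidHom (MulAut.conj g).injective y).trans hy)
  refine ⟨h * g, ?_, ?_⟩
  · have hc := Subgroup.mem_centralizer_singleton_iff.1 h.2
    rw [show (h : G) * g * x * ((h : G) * g)⁻¹ = (h : G) * (g * x * g⁻¹) * (h : G)⁻¹ by group, hc,
      mul_inv_cancel_right]
    exact hg
  · rw [show (h : G) * g * y * ((h : G) * g)⁻¹ = (h : G) * (g * y * g⁻¹) * (h : G)⁻¹ by group]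
    exact Subgroup.mem_subgroupOf.1 hh

section Chev

variable {D : ChevalleyDatum} {F K : Type*} [Field F] [Field K] (C : ChevCore D K)

theorem torusChar_pow (c : Fin D.rank → Kˣ) (e : ℕ) (v : Fin D.rank → ℤ) :
    C.R.torusChar (c ^ e) v = C.R.torusChar c v ^ e := by
  induction e with
  | zero => simp [RootData.torusChar]
  | succ k ih => rw [pow_succ, C.R.torusChar_mul, ih, pow_succ]

/-- Two torus elements conjugate to their Frobenius images by one group element are eigencharacters
of one Weyl group element. -/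
theorem exists_weyl_eigen {n : GL D.Idx K} (hn : n ∈ D.group K) (q : ℕ)
    {a b : Fin D.rank → Kˣ} (ha : n * C.R.torus a * n⁻¹ = C.R.torus (a ^ q))
    (hb : n * C.R.torus b * n⁻¹ = C.R.torus (b ^ q)) :
    ∃ w ∈ C.hR.weyl, (∀ v, C.R.torusChar a ((wMat C.R w).mulVec v) = C.R.torusChar a v ^ q) ∧
      ∀ v, C.R.torusChar b ((wMat C.R w).mulVec v) = C.R.torusChar b v ^ q := by
  obtain ⟨w, hw, β, hβ, m, hm, hmw, u, hu, rfl⟩ := C.normalForm_exists hn
  obtain ⟨v, hv, c, rfl⟩ := C.mem_borel.1 hβ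
  have key : ∀ a, v * C.R.torus c * m * u * C.R.torus a * (v * C.R.torus c * m * u)⁻¹ =
      C.R.torus (a ^ q) →
      ∀ x, C.R.torusChar a ((wMat C.R w⁻¹).mulVec x) = C.R.torusChar a x ^ q := fun a h x => by
    have h1 := torusChar_conj C hm hmw (intertwine_normalForm C hw hv c hm hmw hu h).1
      ((wMat C.R w⁻¹).mulVec x)
    rw [Matrix.mulVec_mulVec, ← wMat_mul C.hR hw, mul_inv_cancel, wMat_one C.hR,
      Matrix.one_mulVec, torusChar_pow] at h1
    exact h1.symm
  exact ⟨w⁻¹, inv_mem hw, key a ha, key b hb⟩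

/-- The order of a nontrivial eigencharacter divides the value of the characteristic polynomial. -/
theorem dvd_det_of_eigen {r q : ℕ} [Fact r.Prime] {a : Fin D.rank → Kˣ}
    (har : a ^ r = 1) (hne : ∃ v, C.R.torusChar a v ≠ 1) {W : Matrix (Fin D.rank) (Fin D.rank) ℤ}
    (hW : ∀ v, C.R.torusChar a (W.mulVec v) = C.R.torusChar a v ^ q) :
    (r : ℤ) ∣ ((q : ℤ) • (1 : Matrix (Fin D.rank) (Fin D.rank) ℤ) - W).det := by
  obtain ⟨v, hv⟩ := hne
  set M := (q : ℤ) • (1 : Matrix (Fin D.rank) (Fin D.rank) ℤ) - W with hM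
  have hord : orderOf (C.R.torusChar a v) = r :=
    orderOf_eq_prime (by rw [← torusChar_pow, har]; simp [RootData.torusChar]) hv
  rw [← hord, orderOf_dvd_iff_zpow_eq_one]
  have hkill : ∀ x, C.R.torusChar a (M.mulVec x) = 1 := fun x => by
    rw [hM, Matrix.sub_mulVec, Matrix.smul_mulVec, Matrix.one_mulVec, sub_eq_add_neg,
      C.R.torusChar_add, ← neg_one_smul ℤ (W.mulVec x), C.R.torusChar_zsmul, C.R.torusChar_zsmul, hW,
      _root_.zpow_neg_one, zpow_natCast, mul_inv_cancel]
  have h1 := hkill (M.adjugate.mulVec v)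
  rwa [Matrix.mulVec_mulVec, Matrix.mul_adjugate, Matrix.smul_mulVec, Matrix.one_mulVec,
    C.R.torusChar_zsmul] at h1

/-- An eigencharacter whose eigenvalue has order `d`, with `φ(d)` the rank, is regular and has
trivial stabiliser in the Weyl group. -/
theorem regular_of_eigen {q r d : ℕ} (hr : r.Prime) (hd : 0 < d) (hl : d.totient = D.rank)
    (hordq : orderOf ((q : ℤ) : ZMod r) = d) (hrW : ¬ r ∣ Nat.card C.hR.weyl)
    {a : Fin D.rank → Kˣ} (har : a ^ r = 1) (hne : ∃ v, C.R.torusChar a v ≠ 1)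
    {w : Equiv.Perm (Fin D.nroots)} (hw' : w⁻¹ ∈ C.hR.weyl)
    (hW : ∀ v, C.R.torusChar a ((wMat C.R w⁻¹).mulVec v) = C.R.torusChar a v ^ q) :
    (∀ s : Fin D.nroots, C.R.torusChar a (C.R.α s) ≠ 1) ∧
      ∀ u ∈ C.hR.weyl,
        (∀ v, C.R.torusChar a ((wMat C.R u).mulVec v) = C.R.torusChar a v) → u = 1 := by
  classical
  have : Fact r.Prime := ⟨hr⟩
  have hw : w ∈ C.hR.weyl := inv_inv w ▸ inv_mem hw'
  set W := wMat C.R w⁻¹ with hWdef
  have hE : Eigen r W (q : ℤ) (C.R.torusChar a) := by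
    refine ⟨C.R.torusChar_add a, fun v => by rw [← torusChar_pow, har]; simp [RootData.torusChar],
      fun v => ?_, hne⟩
    rw [zpow_natCast, hW]
  have hord : ∀ u ∈ C.hR.weyl, orderOf u ∣ Nat.card C.hR.weyl := fun u hu => by
    simpa using orderOf_dvd_natCard (⟨u, hu⟩ : C.hR.weyl)
  obtain ⟨-, hinjW⟩ := hE.cyclotomic_zero hr d hd hl hordq (o := orderOf w⁻¹) (orderOf_pos _)
    (fun h => hrW (h.trans (hord _ (inv_mem hw))))
    (by rw [hWdef, ← wMat_pow C.hR (inv_mem hw), pow_orderOf_eq_one, wMat_one C.hR])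
  have hfree : ∀ u ∈ C.hR.weyl,
      (∀ v, C.R.torusChar a ((wMat C.R u).mulVec v) = C.R.torusChar a v) → u = 1 := by
    let S : Subgroup C.hR.weyl :=
      { carrier := {u | ∀ v, C.R.torusChar a ((wMat C.R u.1).mulVec v) = C.R.torusChar a v}
        one_mem' := fun v => by rw [OneMemClass.coe_one, wMat_one C.hR, Matrix.one_mulVec]
        mul_mem' := fun {u u'} hu hu' v => by
          rw [Subgroup.coe_mul, wMat_mul C.hR u.2, ← Matrix.mulVec_mulVec, hu, hu']
        inv_mem' := fun {u} hu v => by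
          rw [← hu, Matrix.mulVec_mulVec, ← wMat_mul C.hR u.2, InvMemClass.coe_inv, mul_inv_cancel,
            wMat_one C.hR, Matrix.one_mulVec] }
    have := Fintype.ofFinite S
    set A := ∑ u : S, wMat C.R u.1.1 with hA
    have hnorm : ∀ u : C.hR.weyl, u ∈ S →
        (⟨w⁻¹, inv_mem hw⟩ : C.hR.weyl)⁻¹ * u * ⟨w⁻¹, inv_mem hw⟩ ∈ S := by
      intro u hu v
      have hW' : ∀ v, C.R.torusChar a ((wMat C.R w).mulVec v) ^ (q : ℤ) = C.R.torusChar a v := fun v => by
        rw [← hE.eig, Matrix.mulVec_mulVec, hWdef, ← wMat_mul C.hR (inv_mem hw), inv_mul_cancel,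
          wMat_one C.hR, Matrix.one_mulVec]
      have hinjq : ∀ v v', C.R.torusChar a v ^ (q : ℤ) = C.R.torusChar a v' ^ (q : ℤ) →
          C.R.torusChar a v = C.R.torusChar a v' := by
        intro v v' h
        by_contra hne
        refine hE.zpow_ne_one hr (n := (q : ℤ)) ?_ (x := C.R.torusChar a v / C.R.torusChar a v')
          (fun e => hne (div_eq_one.1 e)) ?_ (by rw [div_zpow, h, div_self'])
        · intro hdq
          have : ((q : ℤ) : ZMod r) = 0 := (ZMod.intCast_zmod_eq_zero_iff_dvd _ _).2 hdq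
          rw [this, orderOf_zero] at hordq
          omega
        · rw [div_pow, hE.pow, hE.pow, div_one]
      apply hinjq
      show C.R.torusChar a ((wMat C.R (w⁻¹⁻¹ * u.1 * w⁻¹)).mulVec v) ^ (q : ℤ) = _
      rw [inv_inv, wMat_mul C.hR (mul_mem hw u.2), wMat_mul C.hR hw, ← Matrix.mulVec_mulVec,
        ← Matrix.mulVec_mulVec, hW', hu, hE.eig]
    have hSmem : ∀ u : C.hR.weyl, u ∈ S →
        (⟨w⁻¹, inv_mem hw⟩ : C.hR.weyl) * u * (⟨w⁻¹, inv_mem hw⟩ : C.hR.weyl)⁻¹ ∈ S := by
      intro u hu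
      let f : S → S := fun y => ⟨_, hnorm y.1 y.2⟩
      have hf : Function.Injective f := fun y z e => by
        have := congrArg (fun t : S => (t : C.hR.weyl)) e
        simpa [f] using this
      obtain ⟨y, hy⟩ := (Finite.injective_iff_surjective.1 hf) ⟨u, hu⟩
      have : (⟨w⁻¹, inv_mem hw⟩ : C.hR.weyl) * u * (⟨w⁻¹, inv_mem hw⟩ : C.hR.weyl)⁻¹ = y.1 := by
        have e : (⟨w⁻¹, inv_mem hw⟩ : C.hR.weyl)⁻¹ * y.1 * ⟨w⁻¹, inv_mem hw⟩ = u :=
          congrArg (fun t : S => (t : C.hR.weyl)) hy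
        rw [← e]
        group
      rw [this]
      exact y.2
    have hAW : A * W = W * A := by
      rw [hA, Finset.sum_mul, Finset.mul_sum]
      refine Fintype.sum_equiv (Equiv.ofBijective (fun y : S => (⟨_, hnorm y.1 y.2⟩ : S))
        (Finite.injective_iff_bijective.1 fun y z e => by
          have := congrArg (fun t : S => (t : C.hR.weyl)) e
          simpa using this)) _ _ fun y => ?_
      show wMat C.R y.1.1 * W = W * wMat C.R (w⁻¹⁻¹ * y.1.1 * w⁻¹)
      rw [hWdef, ← wMat_mul C.hR y.1.2, ← wMat_mul C.hR (inv_mem hw)]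
      congr 1
      group
    have hA0 : A ≠ 0 := by
      intro hA0
      obtain ⟨v, hv⟩ := hE.ne
      have hAv : C.R.torusChar a (A.mulVec v) = C.R.torusChar a v ^ (Fintype.card S) := by
        have hsum : ∀ (T : Finset S), C.R.torusChar a ((∑ u ∈ T, wMat C.R u.1.1).mulVec v) =
            C.R.torusChar a v ^ T.card := by
          intro T
          induction T using Finset.induction_on with
          | empty => simp [C.R.torusChar_zero]
          | insert u T hu ih =>
            rw [Finset.sum_insert hu, Matrix.add_mulVec, C.R.torusChar_add, ih, u.2 v,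
              Finset.card_insert_of_notMem hu, pow_succ']
        exact hsum Finset.univ
      rw [hA0, Matrix.zero_mulVec, C.R.torusChar_zero, ← zpow_natCast] at hAv
      refine hE.zpow_ne_one hr (fun h => hrW ?_) hv (hE.pow v) hAv.symm
      rw [← Nat.card_eq_fintype_card] at h
      exact (by exact_mod_cast h : r ∣ Nat.card S).trans (Subgroup.card_subgroup_dvd_card S)
    have hdet := hinjW A hAW hA0
    intro u hu hfix
    have hmul : wMat C.R u * A = A := by
      rw [hA, Finset.mul_sum]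
      refine Fintype.sum_equiv (Equiv.mulLeft (⟨⟨u, hu⟩, hfix⟩ : S)) _ _ fun y => ?_
      rw [← wMat_mul C.hR hu]
      rfl
    refine eq_one_of_wMat C.hR hu ?_
    have h2 : (wMat C.R u - 1) * A = 0 := by rw [sub_mul, hmul, one_mul, sub_self]
    have h3 := congrArg (· * A.adjugate) h2
    simp only [zero_mul, mul_assoc, Matrix.mul_adjugate, mul_smul_comm, mul_one, smul_eq_zero] at h3
    exact sub_eq_zero.1 (h3.resolve_left hdet)
  have hreg : ∀ s : Fin D.nroots, C.R.torusChar a (C.R.α s) ≠ 1 := by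
    intro s hs
    obtain ⟨u, hu, k, hk⟩ := C.exists_simple_image s
    have hu' : u * C.hR.sPerm k * u⁻¹ ∈ C.hR.weyl := mul_mem (mul_mem hu (C.hR.sPerm_mem k)) (inv_mem hu)
    have h1 : u * C.hR.sPerm k * u⁻¹ = 1 := by
      refine hfree _ hu' fun v => ?_
      set v' := (wMat C.R u⁻¹).mulVec v
      have hvv : v = (wMat C.R u).mulVec v' := by
        rw [Matrix.mulVec_mulVec, ← wMat_mul C.hR hu, mul_inv_cancel, wMat_one C.hR, Matrix.one_mulVec]
      have hsk : (wMat C.R (C.hR.sPerm k)).mulVec v' =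
          v' - (∑ j, v' j * D.cartan k.val (D.simple j.val)) • C.R.α (D.simple k.val) := by
        funext i
        simp only [wMat, Matrix.mulVec, dotProduct, Matrix.of_apply, ReflData.sPerm_val,
          C.hR.α_refl k _ (C.R.simple_lt _), C.R.α_simple, Pi.sub_apply, Pi.smul_apply, smul_eq_mul,
          sub_mul, Finset.sum_sub_distrib, Finset.sum_mul]
        congr 1
        · simp [Pi.single_apply]
        · exact Finset.sum_congr rfl fun j _ => by ring
      conv_rhs => rw [hvv]
      rw [wMat_mul C.hR (mul_mem hu (C.hR.sPerm_mem k)), wMat_mul C.hR hu, ← Matrix.mulVec_mulVec,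
        ← Matrix.mulVec_mulVec, hsk, Matrix.mulVec_sub, Matrix.mulVec_smul,
        wMat_mulVec C.hR hu ⟨_, C.R.simple_lt k⟩, hk, sub_eq_add_neg, C.R.torusChar_add, ← neg_smul,
        C.R.torusChar_zsmul, hs, _root_.one_zpow, mul_one]
    rw [conj_eq_one_iff] at h1
    have := congrArg (fun p : Equiv.Perm (Fin D.nroots) => (p ⟨_, C.R.simple_lt k⟩).val) h1
    simp only [Equiv.Perm.one_apply, ReflData.sPerm_val, C.hR.refl_simple_self] at this
    exact C.R.neg_ne _ (C.R.simple_lt k) this
  exact ⟨hreg, hfree⟩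

end Chev

end CfsgLib.RegTorus
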