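import Cfsg.Agent.Lib.RegTorus.Centralizer
import Cfsg.Agent.Lib.ChevField.Fixed
import Mathlib.Tactic.LinearCombination

/-!
# The homomorphism out of `SL₂` of a fundamental root: diagonal elements, torus conjugation, base change

Also the reflection of a torus parameter and base change of torus elements along a ring homomorphism.
-/

set_option autoImplicit false

namespace CfsgLib.RegTorus

open Cfsg.Lie CfsgLib.ChevStr CfsgLib.ChevStr.ChevCore CfsgLib.ChevField Matrix
open scoped MatrixGroups

variable {D : ChevalleyDatum} {F K : Type*} [Field F] [Field K] (C : ChevCore D F) (i : Fin D.rank)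
  (hη : C.EtaNeg)

/-- A matrix of determinant one from its entries. -/
def mkSL (a b c d : F) (h : a * d - b * c = 1) : SpecialLinearGroup (Fin 2) F :=
  ⟨!![a, b; c, d], by simp [det_fin_two, h]⟩

@[simp] theorem coe_mkSL (a b c d : F) (h : a * d - b * c = 1) :
    ((mkSL a b c d h : SpecialLinearGroup (Fin 2) F) : Matrix (Fin 2) (Fin 2) F) = !![a, b; c, d] :=
  rfl

/-- Conjugation by `diag(u, 1)`. -/
def slDiag (u : Fˣ) : SpecialLinearGroup (Fin 2) F →* SpecialLinearGroup (Fin 2) F where
  toFun g := mkSL ((g : Matrix (Fin 2) (Fin 2) F) 0 0) ((u : F) * (g : Matrix (Fin 2) (Fin 2) F) 0 1)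
    ((↑u⁻¹ : F) * (g : Matrix (Fin 2) (Fin 2) F) 1 0) ((g : Matrix (Fin 2) (Fin 2) F) 1 1) (by
      have hd := sl_det g
      linear_combination hd -
        (g : Matrix (Fin 2) (Fin 2) F) 0 1 * (g : Matrix (Fin 2) (Fin 2) F) 1 0 * u.mul_inv)
  map_one' := by ext a b; fin_cases a <;> fin_cases b <;> simp
  map_mul' g h := by
    ext a b
    fin_cases a <;> fin_cases b <;> simp [Matrix.mul_apply, Fin.sum_univ_two] <;> field_simp

theorem torusChar_neg_simple (c : Fin D.rank → Fˣ) :
    C.R.torusChar c (C.R.α (D.neg (D.simple i.val))) =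
      (C.R.torusChar c (C.R.α (D.simple i.val)))⁻¹ := by
  rw [C.R.α_neg _ (C.R.simple_lt i), ← neg_one_zsmul, C.R.torusChar_zsmul, _root_.zpow_neg_one]

theorem slHom_slX (t : F) : C.slHom i hη (slX t) = C.rX i t := C.slMap_slX i t

theorem slHom_slY (t : F) : C.slHom i hη (slY t) = C.rY i t := C.slMap_slY i t

theorem slHom_mem_group (m : SpecialLinearGroup (Fin 2) F) : C.slHom i hη m ∈ D.group F :=
  slHom_mem (fun t => by rw [slHom_slX]; exact C.xGL_mem_group _ _)
    (fun t => by rw [slHom_slY]; exact C.xGL_mem_group _ _) m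

theorem slHom_diag (u : Fˣ) (h : (u : F) * (↑u⁻¹ : F) - 0 * 0 = 1) :
    C.slHom i hη (mkSL (u : F) 0 0 ↑u⁻¹ h) = C.R.torusSingle i u := by
  show C.slMap i _ = _
  rw [slMap, slCell]
  simp [C.rX_zero i, C.rH_eq i u.ne_zero]

theorem slHom_antidiag (u : Fˣ) (h : (0 : F) * 0 - (u : F) * (-↑u⁻¹) = 1) :
    C.slHom i hη (mkSL 0 (u : F) (-↑u⁻¹) 0 h) = C.R.torusSingle i u * C.nS i := by
  show C.slMap i _ = _
  rw [slMap, slCell]
  simp [C.rX_zero i, rN, C.nGL_simple i u]

theorem torus_conj_slHom (c : Fin D.rank → Fˣ) (m : SpecialLinearGroup (Fin 2) F) :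
    C.R.torus c * C.slHom i hη m * (C.R.torus c)⁻¹ =
      C.slHom i hη (slDiag (C.R.torusChar c (C.R.α (D.simple i.val))) m) := by
  set u := C.R.torusChar c (C.R.α (D.simple i.val)) with hu
  have key : (MulAut.conj (C.R.torus c)).toMonoidHom.comp (C.slHom i hη) =
      (C.slHom i hη).comp (slDiag u) := by
    refine slHom_ext (fun t => ?_) (fun t => ?_)
    · show C.R.torus c * C.slHom i hη (slX t) * (C.R.torus c)⁻¹ = C.slHom i hη (slDiag u (slX t))
      rw [show slDiag u (slX t) = slX ((u : F) * t) by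
        ext a b; fin_cases a <;> fin_cases b <;> simp [slDiag], slHom_slX, slHom_slX]
      exact C.acts_torus c ⟨_, C.R.simple_lt i⟩ t
    · show C.R.torus c * C.slHom i hη (slY t) * (C.R.torus c)⁻¹ = C.slHom i hη (slDiag u (slY t))
      rw [show slDiag u (slY t) = slY ((↑u⁻¹ : F) * t) by
        ext a b; fin_cases a <;> fin_cases b <;> simp [slDiag], slHom_slY, slHom_slY]
      have h := C.acts_torus c ⟨_, C.R.neg_lt _ (C.R.simple_lt i)⟩ t
      rw [torusChar_neg_simple C i c, ← hu] at h
      exact h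
  exact DFunLike.congr_fun key m

/-- The action of a fundamental reflection on torus parameters. -/
def reflPar (c : Fin D.rank → Fˣ) : Fin D.rank → Fˣ :=
  c * Pi.mulSingle i (C.R.torusChar c (C.R.α (D.simple i.val)))⁻¹

theorem antidiag_conj_torus (u : Fˣ) (c : Fin D.rank → Fˣ) :
    C.R.torusSingle i u * C.nS i * C.R.torus c * (C.R.torusSingle i u * C.nS i)⁻¹ =
      C.R.torus (reflPar C i c) := by
  rw [RootData.torusSingle, _root_.mul_inv_rev]
  calc C.R.torus (Pi.mulSingle i u) * C.nS i * C.R.torus c *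
        ((C.nS i)⁻¹ * (C.R.torus (Pi.mulSingle i u))⁻¹)
      = C.R.torus (Pi.mulSingle i u) * (C.nS i * C.R.torus c * (C.nS i)⁻¹) *
        (C.R.torus (Pi.mulSingle i u))⁻¹ := by group
    _ = _ := by
      rw [C.nS_conj_torus, ← map_inv, ← map_mul, ← map_mul, mul_right_comm, mul_inv_cancel, one_mul]
      rfl

theorem mapGL_torus_hom (R : RootData D) (f : K →+* F) (c : Fin D.rank → Kˣ) :
    mapGL f (R.torus c) = R.torus (fun k => Units.map (f : K →* F) (c k)) := by
  refine Units.ext ?_
  rw [coe_mapGL, R.coe_torus, R.coe_torus, Matrix.diagonal_map (map_zero _)]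
  congr 1
  funext a
  simp only [RootData.torusChar, Units.coe_prod, Units.val_zpow_eq_zpow_val, map_prod, map_zpow₀]
  rfl

theorem mapGL_xGL_hom (C' : ChevCore D K) (f : K →+* F) (r : ℕ) (t : K) :
    mapGL f (C'.xGL r t) = C.xGL r (f t) :=
  Units.ext (ChevField.x_map f r t)

theorem mapGL_slHom (C' : ChevCore D K) (hη' : C'.EtaNeg) (f : K →+* F)
    (m : SpecialLinearGroup (Fin 2) K) :
    mapGL f (C'.slHom i hη' m) = C.slHom i hη (SpecialLinearGroup.map f m) := by
  have key : (mapGL (D := D) f).comp (C'.slHom i hη') =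
      (C.slHom i hη).comp (SpecialLinearGroup.map f) := by
    refine slHom_ext (fun t => ?_) (fun t => ?_)
    · show mapGL f (C'.slHom i hη' (slX t)) = C.slHom i hη (SpecialLinearGroup.map f (slX t))
      rw [show SpecialLinearGroup.map f (slX t) = slX (f t) by
        ext a b; fin_cases a <;> fin_cases b <;> simp, slHom_slX, slHom_slX]
      exact mapGL_xGL_hom C C' f _ t
    · show mapGL f (C'.slHom i hη' (slY t)) = C.slHom i hη (SpecialLinearGroup.map f (slY t))
      rw [show SpecialLinearGroup.map f (slY t) = slY (f t) by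
        ext a b; fin_cases a <;> fin_cases b <;> simp, slHom_slY, slHom_slY]
      exact mapGL_xGL_hom C C' f _ t
  exact DFunLike.congr_fun key m

end CfsgLib.RegTorus
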