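import Mathlib.Tactic.LinearCombination
import Mathlib.Tactic.Linarith
import Mathlib.Tactic.Ring
import Mathlib.Data.Int.GCD
import Mathlib.Algebra.Order.Ring.Abs
import Mathlib.Algebra.BigOperators.Group.List.Basic

/-!
# Integer polynomials as coefficient lists

Evaluation, bounds, and linear combinations of coefficient lists, for exponent computations in tori.
-/

set_option autoImplicit false

namespace CfsgLib.RegTorus.Coef

/-- Evaluation of a coefficient list. -/
def evalL (q : ℤ) : List ℤ → ℤ
  | [] => 0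
  | a :: l => a + q * evalL q l

theorem evalL_ne {q : ℤ} (hq : 1 ≤ q) : ∀ {l : List ℤ}, (∀ a ∈ l, |a| < q) → (∃ a ∈ l, a ≠ 0) →
    evalL q l ≠ 0
  | [], _, ⟨_, ha, _⟩ => by simp at ha
  | a :: l, hb, hne => fun h => by
    rw [evalL] at h
    have h0 : a = 0 := Int.eq_zero_of_abs_lt_dvd (m := q) ⟨-evalL q l, by linear_combination h⟩
      (hb a (List.mem_cons_self ..))
    subst h0
    obtain ⟨b, hb', hb0⟩ := hne
    refine evalL_ne hq (fun c hc => hb c (List.mem_cons_of_mem _ hc))
      ⟨b, (List.mem_cons.1 hb').resolve_left hb0, hb0⟩ ?_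
    rw [zero_add, mul_eq_zero] at h
    exact h.resolve_left (by linarith)

theorem abs_evalL_le {q C : ℤ} (hq : 1 ≤ q) : ∀ {l : List ℤ}, (∀ a ∈ l, |a| ≤ C) →
    |evalL q l| * (q - 1) ≤ C * (q ^ l.length - 1)
  | [], _ => by simp [evalL]
  | a :: l, hb => by
    have h1 : |a| ≤ C := hb a (List.mem_cons_self ..)
    have h2 := abs_evalL_le hq fun b hbl => hb b (List.mem_cons_of_mem _ hbl)
    rw [evalL, List.length_cons, pow_succ']
    calc |a + q * evalL q l| * (q - 1) ≤ (|a| + q * |evalL q l|) * (q - 1) := by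
          refine mul_le_mul_of_nonneg_right ((abs_add_le _ _).trans ?_) (by linarith)
          rw [abs_mul, abs_of_nonneg (by linarith : 0 ≤ q)]
      _ ≤ C * (q - 1) + q * (C * (q ^ l.length - 1)) := by
          rw [add_mul, mul_assoc q]
          exact add_le_add (mul_le_mul_of_nonneg_right h1 (by linarith))
            (mul_le_mul_of_nonneg_left h2 (by linarith))
      _ = C * (q * q ^ l.length - 1) := by ring

/-- A linear combination of coefficient lists of length `n`. -/
def comb (n : ℕ) (c : List (ℤ × List ℤ)) : List ℤ :=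
  c.foldr (fun p acc => List.zipWith (fun x y => p.1 * x + y) p.2 acc) (List.replicate n 0)

theorem evalL_replicate_zero (q : ℤ) : ∀ n : ℕ, evalL q (List.replicate n 0) = 0
  | 0 => rfl
  | n + 1 => by rw [List.replicate_succ, evalL, evalL_replicate_zero q n, mul_zero, zero_add]

theorem evalL_append_zero (q : ℤ) : ∀ l : List ℤ, evalL q (l ++ [0]) = evalL q l
  | [] => by simp [evalL]
  | a :: l => by rw [List.cons_append, evalL, evalL, evalL_append_zero q l]

theorem evalL_zipWith (q k : ℤ) : ∀ {l l' : List ℤ}, l.length = l'.length →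
    evalL q (List.zipWith (fun x y => k * x + y) l l') = k * evalL q l + evalL q l'
  | [], [], _ => by simp [evalL]
  | a :: l, b :: l', h => by
    rw [List.zipWith_cons_cons, evalL, evalL, evalL,
      evalL_zipWith q k (l := l) (l' := l') (by simpa using h)]
    ring

theorem evalL_comb (q : ℤ) {n : ℕ} : ∀ c : List (ℤ × List ℤ), (∀ p ∈ c, p.2.length = n) →
    (comb n c).length = n ∧ evalL q (comb n c) = (c.map fun p => p.1 * evalL q p.2).sum
  | [], _ => ⟨List.length_replicate, by simpa [comb] using evalL_replicate_zero q n⟩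
  | p :: c, h => by
    obtain ⟨h1, h2⟩ := evalL_comb q c fun x hx => h x (List.mem_cons_of_mem _ hx)
    have hl : p.2.length = n := h _ (List.mem_cons_self ..)
    have e : comb n (p :: c) = List.zipWith (fun x y => p.1 * x + y) p.2 (comb n c) := rfl
    refine ⟨by rw [e, List.length_zipWith, hl, h1, min_self], ?_⟩
    rw [e, evalL_zipWith q _ (hl.trans h1.symm), h2, List.map_cons, List.sum_cons]

theorem dvd_evalL_sub_sum {m q : ℤ} (hq : m ∣ q - 1) : ∀ l : List ℤ, m ∣ evalL q l - l.sum
  | [] => by simp [evalL]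
  | a :: l => by
    rw [evalL, List.sum_cons,
      show a + q * evalL q l - (a + l.sum) = (evalL q l - l.sum) + (q - 1) * evalL q l by ring]
    exact dvd_add (dvd_evalL_sub_sum hq l) (hq.mul_right _)

theorem two_dvd_evalL_sub_sum {q : ℤ} (hq : 2 ∣ q - 1) (l : List ℤ) : 2 ∣ evalL q l - l.sum :=
  dvd_evalL_sub_sum hq l

end CfsgLib.RegTorus.Coef
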