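import Cfsg.Agent.Lib.RegTorus.TwistedTorus
import Cfsg.Agent.Lib.RegTorus.CoefList
import Cfsg.Agent.Lib.CycTorus.Coords

/-!
# Fixed parameters of a twisted torus with a cyclic vector

A word in the fundamental reflections acts on torus parameters through an integral matrix; when
that matrix has a cyclic vector the parameters fixed by the twisted Frobenius are the powers of one
of them.
-/

set_option autoImplicit false

namespace CfsgLib.RegTorus

open Cfsg.Lie CfsgLib.ChevStr CfsgLib.ChevStr.ChevCore CfsgLib.ChevField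
open scoped MatrixGroups

variable {D : ChevalleyDatum} {F : Type*} [Field F]

/-- The matrix of a fundamental reflection on torus parameters. -/
def reflMat (D : ChevalleyDatum) (i : Fin D.rank) (a b : Fin D.rank) : ℤ :=
  (if a = b then 1 else 0) - (if a = i then D.cartan b.val (D.simple i.val) else 0)

/-- The matrix of a word of fundamental reflections on torus parameters. -/
def wordMat (D : ChevalleyDatum) : List (Fin D.rank) → Fin D.rank → Fin D.rank → ℤ
  | [] => fun a b => if a = b then 1 else 0
  | i :: L => fun a b => ∑ k, reflMat D i a k * wordMat D L k b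

theorem reflPar_eq_monMap (C : ChevCore D F) (i : Fin D.rank) (c : Fin D.rank → Fˣ) :
    reflPar C i c = monMap (reflMat D i) c := by
  funext a
  show c a * (Pi.mulSingle i (C.R.torusChar c (C.R.α (D.simple i.val)))⁻¹ :
    Fin D.rank → Fˣ) a = ∏ b, c b ^ reflMat D i a b
  rw [C.R.torusChar_root _ (C.R.simple_lt i)]
  simp only [reflMat, _root_.zpow_sub, Finset.prod_mul_distrib, Finset.prod_inv_distrib]
  congr 1
  · rw [Fintype.prod_eq_single a fun b hb => by rw [if_neg (Ne.symm hb), zpow_zero], if_pos rfl,
      zpow_one]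
  · by_cases h : a = i
    · subst h
      simp
    · rw [Pi.mulSingle_eq_of_ne h]
      simp [h]

theorem wordPar_eq_monMap (C : ChevCore D F) : ∀ (L : List (Fin D.rank)) (c : Fin D.rank → Fˣ),
    wordPar C L c = monMap (wordMat D L) c
  | [], c => by
    funext a
    simp only [wordPar, wordMat, monMap]
    rw [Fintype.prod_eq_single a fun b hb => by rw [if_neg (Ne.symm hb), zpow_zero], if_pos rfl,
      zpow_one]
  | i :: L, c => by
    show reflPar C i (wordPar C L c) = _
    rw [wordPar_eq_monMap C L c, reflPar_eq_monMap, monMap_monMap]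
    rfl

variable {G : Type*} [CommGroup G]

/-- A tuple of powers of one element under a monomial map. -/
theorem monMap_zpow_const {n : ℕ} (M : Fin n → Fin n → ℤ) (ω : G) (v : Fin n → ℤ) :
    monMap M (fun j => ω ^ v j) = fun a => ω ^ ∑ j, M a j * v j := by
  funext a
  rw [monMap, ← prod_zpow_eq]
  exact Finset.prod_congr rfl fun j _ => by rw [← zpow_mul, mul_comm]

/-- A fixed tuple for a companion matrix is a tuple of powers of its last entry. -/
theorem eq_zpow_of_rec {n : ℕ} {M : Fin n → Fin n → ℤ} {last : Fin n}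
    (hM : ∀ k j, j ≠ last → k ≤ j → k ≠ last → M k j = 0) (q : ℕ) {e : Fin n → ℤ}
    (he : ∀ k, k ≠ last → e k = (q : ℤ) * ∑ j, M k j * e j) (hlast : e last = 1)
    {u : Fin n → G} (hu : monMap M (u ^ q) = u) :
    (∀ k, u k = u last ^ e k) ∧ u last ^ ((q : ℤ) * ∑ j, M last j * e j - 1) = 1 := by
  have main : ∀ k, (∀ j, M k j ≠ 0 → u j = u last ^ e j) →
      u k = u last ^ ((q : ℤ) * ∑ j, M k j * e j) := by
    intro k hk
    conv_lhs => rw [← hu]
    rw [monMap, Finset.mul_sum, ← prod_zpow_eq]
    refine Finset.prod_congr rfl fun j _ => ?_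
    by_cases h : M k j = 0
    · simp [h]
    · rw [Pi.pow_apply, hk j h, ← zpow_natCast, ← zpow_mul, ← zpow_mul]
      congr 1
      ring
  have all : ∀ k, u k = u last ^ e k := by
    intro k
    induction k using WellFoundedLT.induction with
    | ind k ih =>
      by_cases hk : k = last
      · rw [hk, hlast, zpow_one]
      · rw [he k hk]
        refine main k fun j hj => ?_
        by_cases hjl : j = last
        · rw [hjl, hlast, zpow_one]
        · exact ih j (not_le.1 fun hle => hj (hM k j hjl hle hk))
  refine ⟨all, ?_⟩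
  rw [_root_.zpow_sub, zpow_one, ← main last fun j _ => all j, mul_inv_cancel]

/-- A fixed tuple of a matrix with a cyclic vector is a tuple of powers of one element. -/
theorem exists_zpow_of_fixed {n : ℕ} {W B Binv : Fin n → Fin n → ℤ} {last : Fin n}
    (hB : ∀ a b, ∑ k, B a k * Binv k b = if a = b then 1 else 0)
    (hM : ∀ k j, j ≠ last → k ≤ j → k ≠ last →
      (∑ x, (∑ y, Binv k y * W y x) * B x j) = 0) (q : ℕ) {e : Fin n → ℤ}
    (he : ∀ k, k ≠ last → e k = (q : ℤ) * ∑ j, (∑ x, (∑ y, Binv k y * W y x) * B x j) * e j)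
    (hlast : e last = 1) {c : Fin n → G} (hc : monMap W (c ^ q) = c) :
    ∃ x : G, x ^ ((q : ℤ) * ∑ j, (∑ z, (∑ y, Binv last y * W y z) * B z j) * e j - 1) = 1 ∧
      c = fun a => x ^ ∑ k, B a k * e k := by
  set u := monMap Binv c with hudef
  have hcu : monMap B u = c := by
    rw [hudef, monMap_monMap]
    funext a
    rw [monMap, Fintype.prod_eq_single a fun b hb => by rw [hB, if_neg (Ne.symm hb), zpow_zero], hB,
      if_pos rfl, zpow_one]
  have hpow : ∀ (M : Fin n → Fin n → ℤ) (d : Fin n → G), monMap M (d ^ q) = monMap M d ^ q :=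
    fun M d => CycTorus.monMap_pow (Matrix.of M) d q
  have hu : monMap (fun k j => ∑ x, (∑ y, Binv k y * W y x) * B x j) (u ^ q) = u := by
    rw [← monMap_monMap (fun k x => ∑ y, Binv k y * W y x) B, ← monMap_monMap Binv W, hpow B,
      hcu, hc]
  obtain ⟨h1, h2⟩ := eq_zpow_of_rec hM q he hlast hu
  refine ⟨u last, h2, ?_⟩
  conv_lhs => rw [← hcu, show u = fun j => u last ^ e j from funext h1]
  exact monMap_zpow_const B (u last) e

end CfsgLib.RegTorus
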