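import Cfsg.Agent.Lib.RegTorus.TwistedTorus

/-!
# Elements of finite Chevalley groups from fixed torus parameters

For a unimodular Cartan matrix, a parameter fixed by a reflected Frobenius gives an element of the
finite group of the same order; in characteristic two it commutes with an involution when a root
fixed by the word is trivial on it.
-/

set_option autoImplicit false

namespace CfsgLib.RegTorus

open Cfsg.Lie CfsgLib.ChevStr CfsgLib.ChevStr.ChevCore CfsgLib.ChevField
open scoped MatrixGroups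

variable {D : ChevalleyDatum} {K F : Type*} [Field K] [Field F]

/-- A word of fundamental reflections fixing a root. -/
def wordRoot (D : ChevalleyDatum) : List (Fin D.rank) → ℕ → ℕ
  | [], s => s
  | i :: L, s => D.reflectRoot i.val (wordRoot D L s)

theorem acts_word (C : ChevCore D F) : ∀ L : List (Fin D.rank), ∃ w, C.Acts (L.map C.nS).prod w ∧
    ∀ s : Fin D.nroots, (w s).val = wordRoot D L s.val
  | [] => ⟨1, C.acts_one, fun _ => rfl⟩
  | i :: L => by
    obtain ⟨w, hw, hval⟩ := acts_word C L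
    refine ⟨C.hR.sPerm i * w, ?_, fun s => ?_⟩
    · rw [List.map_cons, List.prod_cons]
      exact ChevCore.Acts.mul C (C.acts_nS i) hw
    · rw [Equiv.Perm.mul_apply, ReflData.sPerm_val, hval s]
      rfl

/-- The element attached to a fixed parameter, with an involution for each fixed root trivial on
it. -/
theorem exists_fixed_element [IsAlgClosed F] (f : K →+* F) (C : ChevCore D F) (σ : F ≃+* F)
    {q : ℕ} (hq : 1 < q) (hσ : ∀ x, σ x = x ^ q) (hf : ∀ x, σ x = x → ∃ a, f a = x)
    (N : Fin D.rank → Fin D.rank → ℤ)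
    (hN : ∀ i k : Fin D.rank,
      ∑ j, N i j * D.cartan k.val (D.simple j.val) = if k = i then 1 else 0)
    (L : List (Fin D.rank)) (t : Fin D.rank → Fˣ) (ht : wordPar C L (t ^ q) = t) :
    ∃ x : ↥(D.group K), orderOf x = orderOf (C.R.torus t) ∧
      ∀ ρ : Fin D.nroots, (2 : F) = 0 → wordRoot D L ρ.val = ρ.val →
        C.R.torusChar t (C.R.α ρ) = 1 → ∃ y : ↥(D.group K), orderOf y = 2 ∧ Commute x y := by
  classical
  set a := (L.map C.nS).prod with ha
  have haG : a ∈ D.group F := Subgroup.list_prod_mem _ fun x hx => by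
    obtain ⟨i, -, rfl⟩ := List.mem_map.1 hx
    exact C.nGL_mem_group _ _
  obtain ⟨g, hgG, hga⟩ := LangConnected.exists_lang_chevalley C hq (φ := σ.toRingHom) hσ haG
  have hσg : mapGL σ.toRingHom g = g * a := by rw [← hga, mul_inv_cancel_left]
  have hdesc : ∀ z ∈ D.group F, a * mapGL σ.toRingHom z * a⁻¹ = z →
      ∃ w : ↥(D.group K), mapGL f (w : GL D.Idx K) = g * z * g⁻¹ := by
    intro z hz hfix
    have h : mapGL σ.toRingHom (g * z * g⁻¹) = g * z * g⁻¹ := by
      rw [map_mul, map_mul, map_inv, hσg]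
      conv_rhs => rw [← hfix]
      group
    obtain ⟨w, hw, hwe⟩ := mem_map_of_fixed C σ f hf N hN (mul_mem (mul_mem hgG hz) (inv_mem hgG)) h
    exact ⟨⟨w, hw⟩, hwe⟩
  have hσt : mapGL σ.toRingHom (C.R.torus t) = C.R.torus (t ^ q) := by
    rw [mapGL_torus]
    congr 1
    funext k
    exact Units.ext (by simpa using hσ (t k : F))
  obtain ⟨x, hx⟩ := hdesc _ (C.borel_le_group (C.torus_mem_borel t)) (by
    rw [hσt, ha, wordPar_conj C L, ht])
  have hord : ∀ {w : ↥(D.group K)} {z : GL D.Idx F}, mapGL f (w : GL D.Idx K) = g * z * g⁻¹ →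
      orderOf w = orderOf z := fun {w z} h => by
    rw [← Subgroup.orderOf_coe, ← orderOf_injective (mapGL f) (mapGL_injective f) (w : GL D.Idx K), h]
    exact orderOf_injective (MulAut.conj g).toMonoidHom (MulAut.conj g).injective z
  refine ⟨x, hord hx, fun ρ h2 hρ hχ => ?_⟩
  obtain ⟨w, ⟨-, e, he⟩, hwv⟩ := acts_word C L
  have he1 : ((e ρ : ℤ) : F) = 1 := by
    rcases (he ρ).1 with h | h <;> rw [h]
    · exact Int.cast_one
    · have h11 : (-1 : F) = 1 := by linear_combination -h2
      simpa using h11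
  have hwρ : w ρ = ρ := Fin.ext ((hwv ρ).trans hρ)
  obtain ⟨y, hy⟩ := hdesc (C.xGL ρ 1) (C.xGL_mem_group _ _) (by
    rw [mapGL_xGL C σ, map_one σ, ha, (he ρ).2.2 1, he1, one_mul, hwρ])
  refine ⟨y, ?_, ?_⟩
  · rw [hord hy]
    refine orderOf_eq_prime ?_ fun h => ?_
    · rw [sq, ← C.xGL_add, one_add_one_eq_two, h2, C.xGL_zero]
    · exact one_ne_zero (C.xGL_injective ρ.isLt (h.trans (C.xGL_zero _).symm))
  · refine Subtype.ext (mapGL_injective f ?_)
    show mapGL f ((x : GL D.Idx K) * (y : GL D.Idx K)) = mapGL f ((y : GL D.Idx K) * (x : GL D.Idx K))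
    rw [map_mul, map_mul, hx, hy]
    have h := C.acts_torus t ρ 1
    rw [hχ, Units.val_one, one_mul, mul_inv_eq_iff_eq_mul] at h
    calc _ = g * (C.R.torus t * C.xGL ρ 1) * g⁻¹ := by group
      _ = g * (C.xGL ρ 1 * C.R.torus t) * g⁻¹ := by rw [h]
      _ = _ := by group

end CfsgLib.RegTorus
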