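import Cfsg.Agent.Lib.TwistedStr.TorusD4
import Mathlib.Tactic.LinearCombination

/-!
# Arithmetic of the torus of order `(q³ - 1)(q + 1)` of ³D₄(q)

The exponents of the root values at the generator of the torus, as multiples of a root of unity of
order `q⁶ - 1`.
-/

set_option autoImplicit false

namespace CfsgLib.RegTorus

open Cfsg.Lie CfsgLib.ChevStr CfsgLib.Twisted

/-- The exponents of the generator of the torus at the four nodes. -/
def triExp (q : ℤ) (j : ℕ) : ℤ :=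
  [q ^ 3 + 1, q ^ 4 + q ^ 2 + 1, q * (q ^ 3 + 1), q ^ 2 * (q ^ 3 + 1)].getD j 0

/-- The exponent of the value of a root at the generator of the torus. -/
def triVal (q : ℤ) (s : ℕ) : ℤ := ∑ j : Fin chevD4.rank, triExp q j.val * chevD4.cartan j.val s

/-- The inner factor of `triVal`. -/
def triCore (q k0 k1 k2 k3 : ℤ) : ℤ :=
  (q + 1) * (k0 + q * k2 + q ^ 2 * k3) + (q ^ 2 + q + 1) * k1

theorem triVal_eq (q : ℤ) (s : ℕ) : triVal q s = (q ^ 2 - q + 1) *
    triCore q (chevD4.cartan 0 s) (chevD4.cartan 1 s) (chevD4.cartan 2 s) (chevD4.cartan 3 s) := by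
  show (∑ j : Fin 4, triExp q j.val * chevD4.cartan j.val s) = _
  rw [Fin.sum_univ_four]
  simp [triExp, triCore]
  ring

theorem triM_eq (q : ℤ) : q ^ 6 - 1 = (q ^ 2 - q + 1) * ((q + 1) * (q ^ 3 - 1)) := by ring

theorem dvd_triVal_iff {q : ℤ} (hq : 1 ≤ q) (k : ℤ) (s : ℕ) :
    q ^ 6 - 1 ∣ triVal q s * k ↔ (q + 1) * (q ^ 3 - 1) ∣
      triCore q (chevD4.cartan 0 s) (chevD4.cartan 1 s) (chevD4.cartan 2 s) (chevD4.cartan 3 s) * k := by
  rw [triVal_eq, triM_eq, mul_assoc (q ^ 2 - q + 1)]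
  exact Int.mul_dvd_mul_iff_left (by nlinarith)

theorem triCore_eq_zero {q k0 k1 k2 k3 : ℤ} (hq : 6 ≤ q) (h0 : |k0| ≤ 4) (h1 : |k1| ≤ 4)
    (h2 : |k2| ≤ 4) (h3 : |k3| ≤ 4) (hdvd : (q + 1) * (q ^ 3 - 1) ∣ triCore q k0 k1 k2 k3) :
    k0 = 0 ∧ k1 = 0 ∧ k2 = 0 ∧ k3 = 0 := by
  rw [abs_le] at h0 h1 h2 h3
  have hK : |k0 + q * k2 + q ^ 2 * k3| ≤ 4 * (q ^ 2 + q + 1) := by
    rw [abs_le]; constructor <;> nlinarith
  rw [abs_le] at hK
  have hE : |triCore q k0 k1 k2 k3| < (q + 1) * (q ^ 3 - 1) := by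
    rw [abs_lt, triCore]
    constructor <;> nlinarith [mul_le_mul_of_nonneg_left hK.1 (show 0 ≤ q + 1 by linarith),
      mul_le_mul_of_nonneg_left hK.2 (show 0 ≤ q + 1 by linarith),
      mul_le_mul_of_nonneg_left h1.1 (show 0 ≤ q ^ 2 + q + 1 by nlinarith),
      mul_le_mul_of_nonneg_left h1.2 (show 0 ≤ q ^ 2 + q + 1 by nlinarith)]
  have hz : triCore q k0 k1 k2 k3 = 0 := Int.eq_zero_of_abs_lt_dvd hdvd hE
  have hk1 : k1 = 0 := by
    refine Int.eq_zero_of_abs_lt_dvd (m := q + 1) ⟨-(k0 + q * k2 + q ^ 2 * k3) - q * k1, ?_⟩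
      (by rw [abs_lt]; constructor <;> linarith)
    rw [triCore] at hz; linear_combination hz
  subst hk1
  have hK0 : k0 + q * k2 + q ^ 2 * k3 = 0 := by
    rw [triCore, mul_zero, add_zero] at hz
    exact (mul_eq_zero.1 hz).resolve_left (by linarith)
  have hk0 : k0 = 0 := Int.eq_zero_of_abs_lt_dvd (m := q) ⟨-k2 - q * k3, by linear_combination hK0⟩
    (by rw [abs_lt]; constructor <;> linarith)
  subst hk0
  have hK2 : k2 + q * k3 = 0 :=
    (mul_eq_zero.1 (show q * (k2 + q * k3) = 0 by linear_combination hK0)).resolve_left (by linarith)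
  have hk2 : k2 = 0 := Int.eq_zero_of_abs_lt_dvd (m := q) ⟨-k3, by linear_combination hK2⟩
    (by rw [abs_lt]; constructor <;> linarith)
  subst hk2
  exact ⟨rfl, rfl, rfl, (mul_eq_zero.1 (show q * k3 = 0 by linear_combination hK2)).resolve_left
    (by linarith)⟩

theorem d4_cartan_le : ∀ j : Fin chevD4.rank, ∀ r : Fin chevD4.nroots,
    |chevD4.cartan j.val r.val| ≤ 2 := by decide +kernel

theorem d4_cartan_inj : ∀ r s : Fin chevD4.nroots,
    (∀ j : Fin chevD4.rank, chevD4.cartan j.val r.val = chevD4.cartan j.val s.val) → r = s := by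
  decide +kernel

theorem d4_cartan_ne : ∀ r : Fin chevD4.nroots,
    ∃ j : Fin chevD4.rank, chevD4.cartan j.val r.val ≠ 0 := by decide +kernel

theorem triVal_small_ne : ∀ q ∈ [2, 3, 4, 5], ∀ r : Fin chevD4.nroots,
    triVal (q : ℕ) r.val % (((q : ℕ) : ℤ) ^ 6 - 1) ≠ 0 := by decide +kernel

theorem triVal_small_inj : ∀ q ∈ [3, 4, 5], ∀ r s : Fin chevD4.nroots,
    (triVal (q : ℕ) r.val - triVal (q : ℕ) s.val) % (((q : ℕ) : ℤ) ^ 6 - 1) = 0 → r = s := by
  decide +kernel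

/-- The root value exponent for `q = 2`, reduced. -/
def triVal2 (r : Fin chevD4.nroots) : ℤ := triVal 2 r.val % 63

/-- The root with number `simple j`. -/
def d4Simple (j : ℕ) (h : j < 4 := by omega) : Fin chevD4.nroots :=
  ⟨chevD4.simple j, rootDataD4.simple_lt (nodeD4 j h)⟩

theorem triVal_two_stab : ∀ a : Fin chevD4.nroots, triVal2 a = triVal2 (d4Simple 0) →
    ∀ b : Fin chevD4.nroots, triVal2 b = triVal2 (d4Simple 1) →
    ∀ c : Fin chevD4.nroots, triVal2 c = triVal2 (d4Simple 2) →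
    ∀ d : Fin chevD4.nroots, triVal2 d = triVal2 (d4Simple 3) →
    (∀ s : Fin chevD4.nroots, ∃ r : Fin chevD4.nroots, triVal2 r = triVal2 s ∧
      ∀ k : Fin chevD4.rank, rootDataD4.α r k =
        rootDataD4.α s (nodeD4 0) * rootDataD4.α a k + rootDataD4.α s (nodeD4 1) * rootDataD4.α b k +
        rootDataD4.α s (nodeD4 2) * rootDataD4.α c k + rootDataD4.α s (nodeD4 3) * rootDataD4.α d k) →
    a = d4Simple 0 ∧ b = d4Simple 1 ∧ c = d4Simple 2 ∧ d = d4Simple 3 := by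
  decide +kernel

theorem coprime_row {q : ℤ} : IsCoprime (q ^ 2 - q - 1) (q ^ 3 - 1) := by
  obtain ⟨h, hh⟩ := Int.even_mul_succ_self (q - 1)
  refine ⟨-(q + 1) * h * (q - 1) - 2 * h - q * (q - 1) + (q ^ 2 - q - 1), h * (q - 1), ?_⟩
  linear_combination -hh

/-- The order of the generator of the torus. -/
theorem dvd_of_rows {q k : ℤ} (hq : 2 ≤ q)
    (h0 : (q + 1) * (q ^ 3 - 1) ∣ triCore q 2 (-1) 0 0 * k)
    (h1 : (q + 1) * (q ^ 3 - 1) ∣ triCore q (-1) 2 (-1) (-1) * k) :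
    (q + 1) * (q ^ 3 - 1) ∣ k := by
  have h1' : (q - 1) * (q + 1) ∣ (q - 1) * k := by
    refine (Int.mul_dvd_mul_iff_left (show q ^ 2 + q + 1 ≠ 0 by nlinarith)).1 ?_
    rw [show triCore q (-1) 2 (-1) (-1) * k = -((q ^ 2 + q + 1) * ((q - 1) * k)) by
      rw [triCore]; ring, dvd_neg] at h1
    rwa [show (q ^ 2 + q + 1) * ((q - 1) * (q + 1)) = (q + 1) * (q ^ 3 - 1) by ring]
  obtain ⟨m, rfl⟩ := (Int.mul_dvd_mul_iff_left (by linarith)).1 h1'
  rw [show triCore q 2 (-1) 0 0 * ((q + 1) * m) = (q + 1) * -((q ^ 2 - q - 1) * m) by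
    rw [triCore]; ring] at h0
  have h2 := dvd_neg.1 ((Int.mul_dvd_mul_iff_left (by linarith)).1 h0)
  exact mul_dvd_mul_left _ (coprime_row.symm.dvd_of_dvd_mul_left h2)

theorem d4_rows : (chevD4.cartan 0 (chevD4.simple 0) = 2 ∧ chevD4.cartan 1 (chevD4.simple 0) = -1 ∧
      chevD4.cartan 2 (chevD4.simple 0) = 0 ∧ chevD4.cartan 3 (chevD4.simple 0) = 0) ∧
    (chevD4.cartan 0 (chevD4.simple 1) = -1 ∧ chevD4.cartan 1 (chevD4.simple 1) = 2 ∧
      chevD4.cartan 2 (chevD4.simple 1) = -1 ∧ chevD4.cartan 3 (chevD4.simple 1) = -1) := by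
  decide +kernel

example (F : Type) [Field F] : (coreD4 F).R = rootDataD4 := rfl

end CfsgLib.RegTorus
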