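import Cfsg.Agent.Lib.RegTorus.RankOneMap
import Cfsg.Agent.Lib.RegTorus.TrialityExp
import Mathlib.FieldTheory.IsAlgClosed.AlgebraicClosure
import Mathlib.RingTheory.RootsOfUnity.EnoughRootsOfUnity

/-!
# A self-centralising cyclic torus of order `(q³ - 1)(q + 1)` in ³D₄(q)

Over an algebraic closure the generator is conjugate to a regular element of the diagonal torus.
-/

set_option autoImplicit false

namespace CfsgLib.RegTorus

open Cfsg.Lie CfsgLib.ChevStr CfsgLib.ChevStr.ChevCore CfsgLib.ChevField CfsgLib.Twisted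
open scoped MatrixGroups

/-- An element fixed by the power of the cardinality lies in the image of the finite field. -/
theorem mem_range_of_pow_card {K F : Type*} [Field K] [Fintype K] [Field F] (f : K →+* F) {x : F}
    (hx : x ^ Fintype.card K = x) : ∃ y, f y = x := by
  classical
  by_contra hne
  push Not at hne
  have hQ : 1 < Fintype.card K := Fintype.one_lt_card
  have hP : (Polynomial.X ^ Fintype.card K - Polynomial.X : Polynomial F) ≠ 0 :=
    FiniteField.X_pow_card_sub_X_ne_zero F hQ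
  have hdeg := Polynomial.card_le_degree_of_subset_roots
    (p := (Polynomial.X ^ Fintype.card K - Polynomial.X : Polynomial F))
    (Z := insert x (Finset.univ.image f)) (by
      intro z hz
      rw [Polynomial.mem_roots hP]
      simp only [Finset.insert_val, Multiset.mem_ndinsert, Finset.mem_val, Finset.mem_image,
        Finset.mem_univ, true_and] at hz
      rcases hz with rfl | ⟨y, rfl⟩
      · simp [Polynomial.IsRoot, hx]
      · simp [Polynomial.IsRoot, ← map_pow, FiniteField.pow_card])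
  rw [Finset.card_insert_of_notMem (by simpa using fun y => hne y),
    Finset.card_image_of_injective _ f.injective, Finset.card_univ,
    FiniteField.X_pow_card_sub_X_natDegree_eq F hQ] at hdeg
  omega

variable {F : Type*} [Field F]

theorem etaNegD4 (F : Type*) [Field F] : (coreD4 F).EtaNeg := etaCheck_D4

/-- The generator of the torus as a tuple, from a root of unity. -/
def triTuple (q : ℕ) (ω : Fˣ) (j : Fin chevD4.rank) : Fˣ := ω ^ triExp (q : ℤ) j.val

theorem triTuple_vals (q : ℕ) (ω : Fˣ) :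
    triTuple q ω (nodeD4 0) = ω ^ (q ^ 3 + 1) ∧ triTuple q ω (nodeD4 1) = ω ^ (q ^ 4 + q ^ 2 + 1) ∧
    triTuple q ω (nodeD4 2) = (ω ^ (q ^ 3 + 1)) ^ q ∧
    triTuple q ω (nodeD4 3) = ((ω ^ (q ^ 3 + 1)) ^ q) ^ q := by
  simp only [triTuple, nodeD4, triExp, List.getD_cons_zero, List.getD_cons_succ]
  refine ⟨?_, ?_, ?_, ?_⟩
  all_goals simp only [← zpow_natCast, ← zpow_mul]
  all_goals (congr 1 <;> push_cast <;> ring)

theorem d4_even_rows : ∀ i : Fin chevD4.rank, i ≠ nodeD4 1 →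
    chevD4.cartan 0 (chevD4.simple i.val) % 2 = 0 ∧ chevD4.cartan 2 (chevD4.simple i.val) % 2 = 0 ∧
    chevD4.cartan 3 (chevD4.simple i.val) % 2 = 0 := by decide +kernel

theorem rootVal_triTuple (C : ChevCore chevD4 F) (q : ℕ) (ω : Fˣ) (k : ℤ) {r : ℕ}
    (hr : r < chevD4.nroots) :
    C.R.torusChar (triTuple q ω ^ k) (C.R.α r) = ω ^ (triVal q r * k) := by
  rw [C.R.torusChar_root _ hr, triVal, Finset.sum_mul, ← prod_zpow_eq]
  refine Finset.prod_congr rfl fun j _ => ?_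
  rw [Pi.pow_apply, triTuple, ← zpow_mul, ← zpow_mul]
  congr 1
  ring

theorem zpow_eq_one_iff {q : ℕ} (hq : 2 ≤ q) {ω : Fˣ} (hω : IsPrimitiveRoot ω (q ^ 6 - 1)) (e : ℤ) :
    ω ^ e = 1 ↔ (q : ℤ) ^ 6 - 1 ∣ e := by
  rw [hω.zpow_eq_one_iff_dvd, Nat.cast_sub (Nat.one_le_pow _ _ (by omega))]
  push_cast
  rfl

theorem rootVal_ne_one (C : ChevCore chevD4 F) {q : ℕ} (hq : 2 ≤ q) {ω : Fˣ}
    (hω : IsPrimitiveRoot ω (q ^ 6 - 1)) : ∀ r < chevD4.nroots, rootVal C (triTuple q ω) r ≠ 1 := by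
  intro r hr h
  have h1 : C.R.torusChar (triTuple q ω ^ (1 : ℤ)) (C.R.α r) = 1 := by
    rw [zpow_one]; exact Units.ext h
  rw [rootVal_triTuple C q ω 1 hr, zpow_eq_one_iff hq hω, mul_one] at h1
  by_cases h6 : 6 ≤ q
  · have h2 := (dvd_triVal_iff (q := (q : ℤ)) (by omega) 1 r).1 (by rwa [mul_one])
    rw [mul_one] at h2
    have hb := fun j => le_trans (d4_cartan_le j ⟨r, hr⟩) (by norm_num : (2 : ℤ) ≤ 4)
    obtain ⟨a, b, c, d⟩ := triCore_eq_zero (by omega) (hb (nodeD4 0)) (hb (nodeD4 1))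
      (hb (nodeD4 2)) (hb (nodeD4 3)) h2
    obtain ⟨j, hj⟩ := d4_cartan_ne ⟨r, hr⟩
    rcases nodeD4_cases j with rfl | rfl | rfl | rfl
    exacts [hj a, hj b, hj c, hj d]
  · refine triVal_small_ne q ?_ ⟨r, hr⟩ (Int.emod_eq_zero_of_dvd h1)
    interval_cases q <;> simp

theorem triVal_sub (q : ℤ) (r s : ℕ) : triVal q r - triVal q s = (q ^ 2 - q + 1) *
    triCore q (chevD4.cartan 0 r - chevD4.cartan 0 s) (chevD4.cartan 1 r - chevD4.cartan 1 s)
      (chevD4.cartan 2 r - chevD4.cartan 2 s) (chevD4.cartan 3 r - chevD4.cartan 3 s) := by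
  rw [triVal_eq, triVal_eq]; simp only [triCore]; ring

theorem stab_trivial {q : ℕ} (hq : 2 ≤ q) {ω : Fˣ} (hω : IsPrimitiveRoot ω (q ^ 6 - 1)) :
    ∀ w ∈ (coreD4 F).hR.weyl, (∀ s : Fin chevD4.nroots, rootVal (coreD4 F) (triTuple q ω) (w s) =
      rootVal (coreD4 F) (triTuple q ω) s) → w = 1 := by
  intro w hw hval
  have hdvd : ∀ s : Fin chevD4.nroots, (q : ℤ) ^ 6 - 1 ∣ triVal q (w s).val - triVal q s.val := by
    intro s
    have h : (coreD4 F).R.torusChar (triTuple q ω ^ (1 : ℤ)) ((coreD4 F).R.α (w s).val) =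
        (coreD4 F).R.torusChar (triTuple q ω ^ (1 : ℤ)) ((coreD4 F).R.α s.val) := by
      rw [zpow_one]; exact Units.ext (hval s)
    rw [rootVal_triTuple _ q ω 1 (w s).isLt, rootVal_triTuple _ q ω 1 s.isLt, mul_one, mul_one] at h
    rw [← zpow_eq_one_iff hq hω, _root_.zpow_sub, h, mul_inv_cancel]
  by_cases h2 : q = 2
  · subst h2
    have hv : ∀ s : Fin chevD4.nroots, triVal2 (w s) = triVal2 s := fun s => by
      refine Int.emod_eq_emod_iff_emod_sub_eq_zero.2 (Int.emod_eq_zero_of_dvd ?_)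
      exact_mod_cast hdvd s
    have hα : ∀ (s : Fin chevD4.nroots) (k : Fin chevD4.rank), rootDataD4.α (w s).val k =
        rootDataD4.α s.val (nodeD4 0) * rootDataD4.α (w (d4Simple 0)).val k +
        rootDataD4.α s.val (nodeD4 1) * rootDataD4.α (w (d4Simple 1)).val k +
        rootDataD4.α s.val (nodeD4 2) * rootDataD4.α (w (d4Simple 2)).val k +
        rootDataD4.α s.val (nodeD4 3) * rootDataD4.α (w (d4Simple 3)).val k := fun s k => by
      have h := congrFun ((coreD4 F).hR.α_weyl w hw s) k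
      rw [Finset.sum_apply] at h
      refine h.trans ?_
      exact (Fin.sum_univ_four _).trans rfl
    obtain ⟨a, b, c, d⟩ := triVal_two_stab _ (hv _) _ (hv _) _ (hv _) _ (hv _)
      fun s => ⟨w s, hv s, hα s⟩
    refine Equiv.ext fun s => Fin.ext ((coreD4 F).R.α_inj (w s).isLt s.isLt (funext fun k => ?_))
    refine (hα s k).trans ?_
    rw [a, b, c, d]
    have h := congrFun (rootDataD4.α_eq_sum_simple s.val) k
    rw [Finset.sum_apply] at h
    exact ((Fin.sum_univ_four _).symm.trans h.symm).trans rfl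
  · refine Equiv.ext fun s => ?_
    by_cases h6 : 6 ≤ q
    · refine d4_cartan_inj _ _ fun j => ?_
      have h := hdvd s
      rw [triVal_sub, triM_eq] at h
      have h1 := (Int.mul_dvd_mul_iff_left (by nlinarith)).1 h
      have hb : ∀ j : Fin chevD4.rank,
          |chevD4.cartan j.val (w s).val - chevD4.cartan j.val s.val| ≤ 4 := fun j =>
        (abs_sub _ _).trans (by linarith [d4_cartan_le j (w s), d4_cartan_le j s])
      obtain ⟨a, b, c, d⟩ := triCore_eq_zero (by omega) (hb (nodeD4 0)) (hb (nodeD4 1))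
        (hb (nodeD4 2)) (hb (nodeD4 3)) h1
      rcases nodeD4_cases j with rfl | rfl | rfl | rfl
      exacts [sub_eq_zero.1 a, sub_eq_zero.1 b, sub_eq_zero.1 c, sub_eq_zero.1 d]
    · refine triVal_small_inj q ?_ (w s) s (Int.emod_eq_zero_of_dvd (hdvd s))
      interval_cases q <;> simp at h2 ⊢

theorem torus_triTuple_eq_one_iff {q : ℕ} (hq : 2 ≤ q) {ω : Fˣ}
    (hω : IsPrimitiveRoot ω (q ^ 6 - 1)) (k : ℤ) :
    (coreD4 F).R.torus (triTuple q ω ^ k) = 1 ↔ ((q : ℤ) + 1) * ((q : ℤ) ^ 3 - 1) ∣ k := by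
  have key : ∀ i : Fin chevD4.rank, monMap (fun a j => chevD4.cartan j.val (chevD4.simple a.val))
      (triTuple q ω ^ k) i = 1 ↔ ((q : ℤ) + 1) * ((q : ℤ) ^ 3 - 1) ∣
        triCore q (chevD4.cartan 0 (chevD4.simple i.val)) (chevD4.cartan 1 (chevD4.simple i.val))
          (chevD4.cartan 2 (chevD4.simple i.val)) (chevD4.cartan 3 (chevD4.simple i.val)) * k := by
    intro i
    rw [← dvd_triVal_iff (by omega), ← zpow_eq_one_iff hq hω,
      ← rootVal_triTuple (coreD4 F) q ω k ((coreD4 F).R.simple_lt i),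
      (coreD4 F).R.torusChar_root _ ((coreD4 F).R.simple_lt i), monMap]
  rw [(coreD4 F).torus_eq_one_iff]
  constructor
  · intro h
    obtain ⟨⟨a0, a1, a2, a3⟩, b0, b1, b2, b3⟩ := d4_rows
    have h0 := (key (nodeD4 0)).1 (congrFun h _)
    have h1 := (key (nodeD4 1)).1 (congrFun h _)
    simp only [nodeD4] at h0 h1
    rw [a0, a1, a2, a3] at h0
    rw [b0, b1, b2, b3] at h1
    exact dvd_of_rows (by omega) h0 h1
  · intro h
    funext i
    exact (key i).2 (h.mul_left _)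

section frob

variable {K : Type*} [Field K] (f : K →+* F) (p n : ℕ) [ExpChar K p] [ExpChar F p]

theorem act_mapGL {g : GL chevD4.Idx K} (hg : g ∈ chevD4.group K) :
    (frobD4 F p n).act (mapGL f g) = mapGL f ((frobD4 K p n).act g) := by
  have hm : ∀ {g}, g ∈ chevD4.group K → mapGL f g ∈ chevD4.group F := fun h =>
    group_map_le f ⟨_, h, rfl⟩
  refine Subgroup.closure_induction
    (p := fun g _ => (frobD4 F p n).act (mapGL f g) = mapGL f ((frobD4 K p n).act g)) ?_ ?_ ?_ ?_ hg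
  · rintro x ⟨r, t, hx⟩
    obtain rfl : x = (coreD4 K).xGL r t :=
      Units.ext (hx.trans (by simp [ChevalleyDatum.x, r.isLt]))
    rw [mapGL_xGL_hom (coreD4 F) (coreD4 K), (frobD4 F p n).act_x, (frobD4 K p n).act_x,
      mapGL_xGL_hom (coreD4 F) (coreD4 K)]
    show (coreD4 F).xGL _ ((d4aSym.sign r.val : F) * f t ^ p ^ n) =
      (coreD4 F).xGL _ (f ((d4aSym.sign r.val : K) * t ^ p ^ n))
    rw [map_mul, map_pow, map_intCast]
    rfl
  · rw [map_one, (frobD4 F p n).act_one, (frobD4 K p n).act_one, map_one]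
  · intro x y hx hy ex ey
    rw [map_mul, (frobD4 F p n).act_mul (hm hx) (hm hy), ex, ey, ← map_mul,
      (frobD4 K p n).act_mul hx hy]
  · intro x hx ex
    rw [map_inv, (frobD4 F p n).act_inv (hm hx), ex, ← map_inv, (frobD4 K p n).act_inv hx]

theorem act_slHom_centre (m : Matrix.SpecialLinearGroup (Fin 2) F) :
    (frobD4 F p n).act ((coreD4 F).slHom (nodeD4 1) (etaNegD4 F) m) =
      (coreD4 F).slHom (nodeD4 1) (etaNegD4 F)
        (Matrix.SpecialLinearGroup.map (iterateFrobenius F p n) m) := by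
  set C := coreD4 F
  set φ := C.slHom (nodeD4 1) (etaNegD4 F)
  have hr : ∀ r ∈ [d4p2, d4m2], r < chevD4.nroots ∧ d4aSym.root r = r ∧ d4aSym.sign r = 1 := by
    decide
  have hx : ∀ r ∈ [d4p2, d4m2], ∀ t : F,
      (frobD4 F p n).act (C.xGL r t) = C.xGL r (t ^ p ^ n) := by
    intro r h t
    obtain ⟨a, b, c⟩ := hr r h
    rw [(frobD4 F p n).act_word (root := d4aSym.root) (fun _ => rfl) a, b]
    show C.xGL r ((d4aSym.sign r : F) * t ^ p ^ n) = _
    rw [c, Int.cast_one, one_mul]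
  obtain ⟨-, s1, -, -, -, m1, -, -⟩ := d4_simples
  let ψ : Matrix.SpecialLinearGroup (Fin 2) F →* GL chevD4.Idx F :=
    MonoidHom.mk' (fun m => (frobD4 F p n).act (φ m)) fun a b => by
      rw [map_mul]
      exact (frobD4 F p n).act_mul (slHom_mem_group C _ _ a) (slHom_mem_group C _ _ b)
  have key : ψ = φ.comp (Matrix.SpecialLinearGroup.map (iterateFrobenius F p n)) := by
    refine slHom_ext (fun t => ?_) (fun t => ?_)
    · show (frobD4 F p n).act (φ (slX t)) = φ (Matrix.SpecialLinearGroup.map (iterateFrobenius F p n) (slX t))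
      rw [show Matrix.SpecialLinearGroup.map (iterateFrobenius F p n) (slX t) = slX (iterateFrobenius F p n t) by
        ext a b; fin_cases a <;> fin_cases b <;> simp, iterateFrobenius_def]
      show (frobD4 F p n).act (C.slHom (nodeD4 1) (etaNegD4 F) (slX t)) =
        C.slHom (nodeD4 1) (etaNegD4 F) (slX (t ^ p ^ n))
      rw [slHom_slX, slHom_slX, rX, rX]
      simp only [nodeD4, s1]
      exact hx _ (by simp) t
    · show (frobD4 F p n).act (φ (slY t)) = φ (Matrix.SpecialLinearGroup.map (iterateFrobenius F p n) (slY t))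
      rw [show Matrix.SpecialLinearGroup.map (iterateFrobenius F p n) (slY t) = slY (iterateFrobenius F p n t) by
        ext a b; fin_cases a <;> fin_cases b <;> simp, iterateFrobenius_def]
      show (frobD4 F p n).act (C.slHom (nodeD4 1) (etaNegD4 F) (slY t)) =
        C.slHom (nodeD4 1) (etaNegD4 F) (slY (t ^ p ^ n))
      rw [slHom_slY, slHom_slY, rY, rY]
      simp only [nodeD4, s1, m1]
      exact hx _ (by simp) t
  exact DFunLike.congr_fun key m

end frob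

theorem reflPar_twist (q : ℕ) (c : Fin chevD4.rank → Fˣ) :
    let s := reflPar (coreD4 F) (nodeD4 1) (torusTwist piD4 (fun _ => q) c)
    s (nodeD4 0) = c (nodeD4 3) ^ q ∧ s (nodeD4 2) = c (nodeD4 0) ^ q ∧
      s (nodeD4 3) = c (nodeD4 2) ^ q ∧
      s (nodeD4 1) * c (nodeD4 1) ^ q = (c (nodeD4 0) * c (nodeD4 2) * c (nodeD4 3)) ^ q := by
  intro s
  obtain ⟨e0, e1, e2, e3⟩ := piD4_vals
  set d := torusTwist piD4 (fun _ => q) c with hd
  have h2 : d (nodeD4 2) = c (nodeD4 0) ^ q := by rw [← e0]; exact torusTwist_apply _ _ _ _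
  have h1 : d (nodeD4 1) = c (nodeD4 1) ^ q := by rw [← e1]; exact torusTwist_apply _ _ _ _
  have h3 : d (nodeD4 3) = c (nodeD4 2) ^ q := by rw [← e2]; exact torusTwist_apply _ _ _ _
  have h0 : d (nodeD4 0) = c (nodeD4 3) ^ q := by rw [← e3]; exact torusTwist_apply _ _ _ _
  obtain ⟨-, b0, b1, b2, b3⟩ := d4_rows
  have hχ : (coreD4 F).R.torusChar d ((coreD4 F).R.α (chevD4.simple (nodeD4 1).val)) =
      (d (nodeD4 0))⁻¹ * d (nodeD4 1) ^ (2 : ℤ) * (d (nodeD4 2))⁻¹ * (d (nodeD4 3))⁻¹ := by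
    rw [(coreD4 F).R.torusChar_root _ ((coreD4 F).R.simple_lt _), prod_nodeD4]
    simp only [nodeD4, b0, b1, b2, b3, _root_.zpow_neg_one]
  have hne : nodeD4 0 ≠ nodeD4 1 ∧ nodeD4 2 ≠ nodeD4 1 ∧ nodeD4 3 ≠ nodeD4 1 := by decide +kernel
  have ho : ∀ j, j ≠ nodeD4 1 → s j = d j := fun j hj => by
    show d j * (Pi.mulSingle (nodeD4 1) _ : Fin chevD4.rank → Fˣ) j = d j
    rw [Pi.mulSingle_eq_of_ne hj, mul_one]
  refine ⟨by rw [ho _ hne.1, h0], by rw [ho _ hne.2.1, h2], by rw [ho _ hne.2.2, h3], ?_⟩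
  show d (nodeD4 1) * (Pi.mulSingle (nodeD4 1) _ : Fin chevD4.rank → Fˣ) (nodeD4 1) * _ = _
  rw [Pi.mulSingle_eq_same, hχ, h0, h1, h2, h3, _root_.zpow_two]
  refine Units.ext ?_
  push_cast
  field_simp
  rw [mul_pow, mul_pow]
  ring

theorem units_sq_pow {p : ℕ} [ExpChar F p] (n : ℕ) {u : Fˣ} (hu : u ^ 2 = 1) : u ^ p ^ n = u := by
  have h := congrArg (fun x : Fˣ => (x : F)) hu
  simp only [Units.val_pow_eq_pow_val, Units.val_one, sq_eq_one_iff] at h
  refine Units.ext ?_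
  rcases h with h | h <;> simp [h, neg_one_pow_expChar p n]

/-- A parameter fixed up to the kernel by the twisted endomorphism is a power of the generator. -/
theorem exists_pow_of_fixed {p : ℕ} [ExpChar F p] (n : ℕ) (hq : 2 ≤ p ^ n) {ω : Fˣ}
    (hω : IsPrimitiveRoot ω ((p ^ n) ^ 6 - 1)) {c : Fin chevD4.rank → Fˣ}
    (hc : (coreD4 F).R.torus (reflPar (coreD4 F) (nodeD4 1) (torusTwist piD4 (fun _ => p ^ n) c)) =
      (coreD4 F).R.torus c) :
    ∃ k : ℕ, (coreD4 F).R.torus c = (coreD4 F).R.torus (triTuple (p ^ n) ω ^ k) := by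
  set C := coreD4 F
  set q := p ^ n with hqdef
  set s := reflPar C (nodeD4 1) (torusTwist piD4 (fun _ => q) c) with hs
  obtain ⟨s0, s2, s3, s1⟩ : s (nodeD4 0) = c (nodeD4 3) ^ q ∧ s (nodeD4 2) = c (nodeD4 0) ^ q ∧
      s (nodeD4 3) = c (nodeD4 2) ^ q ∧
      s (nodeD4 1) * c (nodeD4 1) ^ q = (c (nodeD4 0) * c (nodeD4 2) * c (nodeD4 3)) ^ q :=
    reflPar_twist (F := F) q c
  set d := c⁻¹ * s with hddef
  have hd : C.R.torus d = 1 := by rw [map_mul, map_inv, hc, inv_mul_cancel]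
  have hsq : ∀ j, d j ^ 2 = 1 := fun j => congrFun (pow_eq_one_of_torus _ 2 invD4_spec hd) j
  obtain ⟨⟨a0, a1, a2, a3⟩, b0, b1, b2, b3⟩ := d4_rows
  have hrow := fun i => congrFun ((C.torus_eq_one_iff d).1 hd) i
  have hinv : ∀ j, (d j)⁻¹ = d j := fun j =>
    inv_eq_of_mul_eq_one_right (by rw [← sq]; exact hsq j)
  have hd1 : d (nodeD4 1) = 1 := by
    have h := hrow (nodeD4 0)
    rw [monMap, prod_nodeD4] at h
    simp only [nodeD4, a0, a1, a2, a3, zpow_zero, mul_one, _root_.zpow_neg_one] at h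
    have h0 := hsq (nodeD4 0)
    rw [zpow_two, ← sq] at h
    simp only [nodeD4] at h0
    rw [h0, one_mul, inv_eq_one] at h
    exact h
  have hprod : d (nodeD4 0) * d (nodeD4 2) * d (nodeD4 3) = 1 := by
    have h := hrow (nodeD4 1)
    rw [monMap, prod_nodeD4] at h
    simp only [nodeD4, b0, b1, b2, b3, _root_.zpow_neg_one, zpow_two] at h
    have h1 := hd1
    simp only [nodeD4] at h1
    rw [h1, mul_one, mul_one] at h
    simpa [hinv, nodeD4] using h
  have hcs : ∀ j, s j = c j * d j := fun j => by simp [hddef]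
  have mm : ∀ {x y z : Fˣ}, x * y * z = 1 → x ^ 2 = 1 → y ^ 2 = 1 → z ^ 2 = 1 → y * z = x :=
    fun {x y z} h hx hy hz => by
      rw [mul_assoc] at h
      calc y * z = x ^ 2 * (y * z) := by rw [hx, one_mul]
        _ = x * (x * (y * z)) := by rw [sq, mul_assoc]
        _ = x := by rw [h, mul_one]
  have m23 : d (nodeD4 2) * d (nodeD4 3) = d (nodeD4 0) := mm hprod (hsq _) (hsq _) (hsq _)
  have m30 : d (nodeD4 3) * d (nodeD4 0) = d (nodeD4 2) :=
    mm (by rw [← hprod]; ac_rfl) (hsq _) (hsq _) (hsq _)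
  have m02 : d (nodeD4 0) * d (nodeD4 2) = d (nodeD4 3) :=
    mm (by rw [← hprod]; ac_rfl) (hsq _) (hsq _) (hsq _)
  have hfix : ∀ j, d j ^ q = d j := fun j => units_sq_pow n (hsq j)
  set z : Fin chevD4.rank → Fˣ := fun j =>
    [d (nodeD4 3), 1, d (nodeD4 0), d (nodeD4 2)].getD j.val 1 with hzdef
  have hz1 : C.R.torus z = 1 := by
    rw [C.torus_eq_one_iff]
    funext i
    rw [monMap, prod_nodeD4]
    have hev : ∀ (u : Fˣ) (e : ℤ), u ^ 2 = 1 → e % 2 = 0 → u ^ e = 1 := fun u e hu he => by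
      obtain ⟨m, rfl⟩ := Int.dvd_of_emod_eq_zero he
      rw [zpow_mul, show u ^ (2 : ℤ) = u ^ 2 from rfl, hu, one_zpow]
    by_cases hi1 : i = nodeD4 1
    · subst hi1
      simp only [hzdef, nodeD4, b0, b1, b2, b3, List.getD_cons_zero, List.getD_cons_succ,
        _root_.zpow_neg_one, one_zpow, mul_one]
      refine Eq.trans ?_ hprod
      simp only [nodeD4, hinv]
      ac_rfl
    · obtain ⟨g0, g2, g3⟩ := d4_even_rows i hi1
      simp only [hzdef, nodeD4, List.getD_cons_zero, List.getD_cons_succ, one_zpow]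
      rw [hev _ _ (hsq _) g0, hev _ _ (hsq _) g2, hev _ _ (hsq _) g3]
      simp
  set c' := c * z with hc'
  have z0 : z (nodeD4 0) = d (nodeD4 3) := rfl
  have z1 : z (nodeD4 1) = 1 := rfl
  have z2 : z (nodeD4 2) = d (nodeD4 0) := rfl
  have z3 : z (nodeD4 3) = d (nodeD4 2) := rfl
  have e2 : c' (nodeD4 2) = c' (nodeD4 0) ^ q := by
    rw [hc', Pi.mul_apply, Pi.mul_apply, mul_pow, ← s2, hcs, z0, z2, hfix, mul_assoc, m23]
  have e3 : c' (nodeD4 3) = c' (nodeD4 2) ^ q := by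
    rw [hc', Pi.mul_apply, Pi.mul_apply, mul_pow, ← s3, hcs, z2, z3, hfix, mul_assoc, m30]
  have e0 : c' (nodeD4 0) = c' (nodeD4 3) ^ q := by
    rw [hc', Pi.mul_apply, Pi.mul_apply, mul_pow, ← s0, hcs, z0, z3, hfix, mul_assoc, m02]
  have e1 : c' (nodeD4 1) ^ (q + 1) = c' (nodeD4 0) * c' (nodeD4 2) * c' (nodeD4 3) := by
    calc c' (nodeD4 1) ^ (q + 1) = c (nodeD4 1) * c (nodeD4 1) ^ q := by
          rw [hc', Pi.mul_apply, z1, mul_one, pow_succ, mul_comm]
      _ = s (nodeD4 1) * c (nodeD4 1) ^ q := by rw [hcs, hd1, mul_one]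
      _ = (c (nodeD4 0) * c (nodeD4 2) * c (nodeD4 3)) ^ q := s1
      _ = (c' (nodeD4 0) * c' (nodeD4 2) * c' (nodeD4 3)) ^ q := by
          simp only [hc', Pi.mul_apply, z0, z2, z3]
          congr 1
          calc _ = c (nodeD4 0) * c (nodeD4 2) * c (nodeD4 3) *
              (d (nodeD4 0) * d (nodeD4 2) * d (nodeD4 3)) := by rw [hprod, mul_one]
            _ = _ := by ac_rfl
      _ = _ := by rw [mul_pow, mul_pow, ← e2, ← e3, ← e0]; ac_rfl
  have hM : 0 < q ^ 6 - 1 := Nat.sub_pos_of_lt (Nat.one_lt_pow (by norm_num) (by omega))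
  have hM1 : (q ^ 3 + 1) * (q ^ 3 - 1) = q ^ 6 - 1 := by
    rw [← Nat.sq_sub_sq]; ring_nf
  have hM2 : (q ^ 4 + q ^ 2 + 1) * ((q - 1) * (q + 1)) = q ^ 6 - 1 := by
    rw [mul_comm (q - 1), ← Nat.sq_sub_sq, one_pow, Nat.mul_sub_one]
    have : (q ^ 4 + q ^ 2 + 1) * q ^ 2 = q ^ 6 + (q ^ 4 + q ^ 2) := by ring
    omega
  have ha : IsPrimitiveRoot (ω ^ (q ^ 3 + 1)) (q ^ 3 - 1) := hω.pow hM hM1.symm
  have hq1 : 2 ≤ q ^ 3 := le_trans hq (Nat.le_self_pow (by norm_num) _)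
  have hc0 : c' (nodeD4 0) ^ (q ^ 3 - 1) = 1 := by
    have h : c' (nodeD4 0) ^ q ^ 3 = c' (nodeD4 0) := by
      rw [show q ^ 3 = q * q * q by ring, pow_mul, pow_mul, ← e2, ← e3, ← e0]
    refine mul_right_cancel (b := c' (nodeD4 0)) ?_
    rw [← pow_succ, Nat.sub_add_cancel (by omega), h, one_mul]
  have : NeZero (q ^ 3 - 1) := ⟨by omega⟩
  obtain ⟨i, -, hi⟩ := (IsPrimitiveRoot.coe_units_iff.2 ha).eq_pow_of_pow_eq_one
    (ξ := (c' (nodeD4 0) : F)) (by rw [← Units.val_pow_eq_pow_val, hc0, Units.val_one])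
  have hi' : (ω ^ (q ^ 3 + 1)) ^ i = c' (nodeD4 0) :=
    Units.ext (by rw [Units.val_pow_eq_pow_val]; exact hi)
  have hb : IsPrimitiveRoot (ω ^ ((q ^ 4 + q ^ 2 + 1) * (q - 1))) (q + 1) :=
    hω.pow hM (by rw [mul_assoc, hM2])
  have hu : (c' (nodeD4 1) * ((ω ^ (q ^ 4 + q ^ 2 + 1)) ^ i)⁻¹) ^ (q + 1) = 1 := by
    rw [mul_pow, e1, e3, e2, ← hi', inv_pow, mul_inv_eq_one]
    simp only [← pow_mul, ← pow_add]
    congr 1
    ring
  obtain ⟨j, -, hj⟩ := (IsPrimitiveRoot.coe_units_iff.2 hb).eq_pow_of_pow_eq_one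
    (ξ := ((c' (nodeD4 1) * ((ω ^ (q ^ 4 + q ^ 2 + 1)) ^ i)⁻¹ : Fˣ) : F))
    (by rw [← Units.val_pow_eq_pow_val, hu, Units.val_one])
  have hj' : (ω ^ ((q ^ 4 + q ^ 2 + 1) * (q - 1))) ^ j =
      c' (nodeD4 1) * ((ω ^ (q ^ 4 + q ^ 2 + 1)) ^ i)⁻¹ :=
    Units.ext (by rw [Units.val_pow_eq_pow_val]; exact hj)
  refine ⟨i + (q ^ 3 - 1) * j, ?_⟩
  rw [show C.R.torus c = C.R.torus c' by rw [hc', map_mul, hz1, mul_one]]
  congr 1
  obtain ⟨t0, t1, t2, t3⟩ := triTuple_vals q ω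
  have hA : (ω ^ (q ^ 3 + 1)) ^ (i + (q ^ 3 - 1) * j) = c' (nodeD4 0) := by
    rw [pow_add, pow_mul _ (q ^ 3 - 1), ha.pow_eq_one, one_pow, mul_one, hi']
  have hB : (ω ^ (q ^ 4 + q ^ 2 + 1)) ^ (i + (q ^ 3 - 1) * j) = c' (nodeD4 1) := by
    rw [pow_add]
    have e : (ω ^ (q ^ 4 + q ^ 2 + 1)) ^ (q ^ 3 - 1) = ω ^ ((q ^ 4 + q ^ 2 + 1) * (q - 1)) := by
      rw [← pow_mul]
      obtain ⟨r, hr⟩ : ∃ r, q = r + 1 := ⟨q - 1, by omega⟩
      have : q ^ 3 - 1 = (q - 1) * (q + 1) * q + (q - 1) := by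
        rw [hr, Nat.add_sub_cancel]
        have : (r + 1) ^ 3 = r * (r + 1 + 1) * (r + 1) + r + 1 := by ring
        omega
      rw [this, mul_add, ← mul_assoc, hM2, pow_add, pow_mul, hω.pow_eq_one, one_pow, one_mul]
    rw [pow_mul _ (q ^ 3 - 1), e, hj', mul_comm, inv_mul_cancel_right]
  funext l
  rcases nodeD4_cases l with rfl | rfl | rfl | rfl <;> rw [Pi.pow_apply]
  · rw [t0, hA]
  · rw [t1, hB]
  · rw [t2, e2, pow_right_comm, hA]
  · rw [t3, e3, e2, ← hA]
    simp only [← pow_mul]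
    congr 1
    ring

variable {p : ℕ}

theorem omega_pow_sq {n : ℕ} (hq : 2 ≤ p ^ n) {ω : Fˣ} (hω : IsPrimitiveRoot ω ((p ^ n) ^ 6 - 1)) :
    ((ω ^ ((p ^ n) ^ 4 + (p ^ n) ^ 2 + 1)) ^ (p ^ n)) ^ (p ^ n) =
      ω ^ ((p ^ n) ^ 4 + (p ^ n) ^ 2 + 1) ∧
    (ω ^ ((p ^ n) ^ 4 + (p ^ n) ^ 2 + 1)) ^ (p ^ n) ≠ ω ^ ((p ^ n) ^ 4 + (p ^ n) ^ 2 + 1) ∧
    (((ω ^ ((p ^ n) ^ 3 + 1)) ^ (p ^ n)) ^ (p ^ n)) ^ (p ^ n) = ω ^ ((p ^ n) ^ 3 + 1) := by
  set q := p ^ n
  have h1 : 1 ≤ q ^ 6 := Nat.one_le_pow _ _ (by omega)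
  obtain ⟨N, hN⟩ : ∃ N, q ^ 6 = N + 1 := ⟨q ^ 6 - 1, by omega⟩
  rw [hN, Nat.add_sub_cancel] at hω
  refine ⟨?_, ?_, ?_⟩
  · rw [← pow_mul, ← pow_mul, show (q ^ 4 + q ^ 2 + 1) * (q * q) = q ^ 6 + (q ^ 4 + q ^ 2) by ring,
      hN, pow_add, pow_succ, hω.pow_eq_one, one_mul, ← pow_succ']
  · rw [← pow_mul]
    intro h
    have hlt : (q ^ 4 + q ^ 2 + 1) * q < N := by
      nlinarith [pow_le_pow_right₀ (show 1 ≤ q by omega) (show 1 ≤ 2 by norm_num),
        Nat.mul_le_mul_left (q ^ 4) hq, Nat.mul_le_mul_left (q ^ 5) hq]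
    have := hω.pow_inj hlt (lt_of_le_of_lt (Nat.le_mul_of_pos_right _ (by omega)) hlt) h
    nlinarith
  · rw [← pow_mul, ← pow_mul, ← pow_mul,
      show (q ^ 3 + 1) * (q * (q * q)) = q ^ 6 + q ^ 3 by ring,
      hN, pow_add, pow_succ, hω.pow_eq_one, one_mul, ← pow_succ']

/-- The conjugating matrix, for `β` and its image `B` under the Frobenius. -/
theorem det_conjMat {β B : F} (h : B - β ≠ 0) : -β / (B - β) * 1 - -B * (1 / (B - β)) = 1 := by
  field_simp
  ring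

theorem conjMat_frob (σ : F →+* F) {β B : F} (h : B - β ≠ 0) (hβ : σ β = B) (hB : σ B = β)
    (d₁ : -β / (B - β) * 1 - -B * (1 / (B - β)) = 1) (u : Fˣ) (hu : (u : F) = B - β)
    (d₂ : (0 : F) * 0 - (u : F) * (-↑u⁻¹) = 1) :
    Matrix.SpecialLinearGroup.map σ (mkSL (-β / (B - β)) (-B) (1 / (B - β)) 1 d₁) =
      mkSL (-β / (B - β)) (-B) (1 / (B - β)) 1 d₁ * mkSL 0 (u : F) (-↑u⁻¹) 0 d₂ := by
  have h' : β - B ≠ 0 := fun e => h (by linear_combination -e)
  ext i j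
  fin_cases i <;> fin_cases j <;>
    simp [-one_div, Matrix.mul_apply, Fin.sum_univ_two, map_div₀, hβ, hB, hu] <;>
    field_simp <;> ring

theorem conjMat_ident {β B : F} (h : B - β ≠ 0) (hβ : β ≠ 0) (hB : B ≠ 0)
    (d₁ : -β / (B - β) * 1 - -B * (1 / (B - β)) = 1) (s v : Fˣ) (hs : (↑s⁻¹ : F) = B * β)
    (hv : (↑v⁻¹ : F) = β) (d₂ : (v : F) * (↑v⁻¹ : F) - 0 * 0 = 1) :
    (slX (-1) * slY 1 * slX (-1) * slX (β + B)) * mkSL (-β / (B - β)) (-B) (1 / (B - β)) 1 d₁ =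
      slDiag s (mkSL (-β / (B - β)) (-B) (1 / (B - β)) 1 d₁) * mkSL (v : F) 0 0 ↑v⁻¹ d₂ := by
  have hs' : (s : F) = (B * β)⁻¹ := by rw [← hs, Units.val_inv_eq_inv_val, inv_inv]
  have hv' : (v : F) = β⁻¹ := by rw [← hv, Units.val_inv_eq_inv_val, inv_inv]
  ext i j
  fin_cases i <;> fin_cases j <;>
    simp [-one_div, slDiag, Matrix.mul_apply, Fin.sum_univ_two, hs', hv', mul_inv_rev] <;>
    field_simp <;> ring

/-- ³D₄(q) has a self-centralising cyclic subgroup of order `(q³ - 1)(q + 1)`. -/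
theorem exists_cyclic_torus_D4 (K : Type*) [Field K] [Fintype K] (p n : ℕ) [Fact p.Prime]
    [CharP K p] (hn : Fintype.card K = p ^ n * p ^ n * p ^ n) (hq : 2 ≤ p ^ n) :
    ∃ H : Subgroup ↥(twistedD4 K (p ^ n)), IsCyclic ↥H ∧
      Nat.card ↥H = ((p ^ n) ^ 3 - 1) * (p ^ n + 1) ∧
      Subgroup.centralizer (H : Set ↥(twistedD4 K (p ^ n))) = H := by
  classical
  have : ExpChar K p := ExpChar.prime Fact.out
  set F := AlgebraicClosure K
  set f : K →+* F := algebraMap K F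
  have : CharP F p := charP_of_injective_ringHom f.injective p
  have : ExpChar F p := ExpChar.prime Fact.out
  set q := p ^ n with hqdef
  set C := coreD4 F with hC
  set i1 := nodeD4 1
  set φ := C.slHom i1 (etaNegD4 F) with hφ
  have hq3 : q ^ 3 = q * q * q := by ring
  have hq31 : 2 ≤ q ^ 3 := le_trans hq (Nat.le_self_pow (by norm_num) _)
  have : NeZero ((q ^ 6 - 1 : ℕ) : F) := ⟨by
    have hpq : (q : F) = 0 := by
      have hn0 : n ≠ 0 := fun h => by simp [hqdef, h] at hq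
      rw [hqdef, Nat.cast_pow, CharP.cast_eq_zero F p, zero_pow hn0]
    rw [Nat.cast_sub (Nat.one_le_pow _ _ (by omega))]
    simp [hpq]⟩
  obtain ⟨w, hw⟩ := HasEnoughRootsOfUnity.exists_primitiveRoot F (q ^ 6 - 1)
  obtain ⟨ω, rfl⟩ : ∃ ω : Fˣ, (ω : F) = w :=
    ⟨(hw.isUnit (Nat.sub_pos_of_lt (Nat.one_lt_pow (by norm_num) (by omega))).ne').unit, rfl⟩
  have hω : IsPrimitiveRoot ω (q ^ 6 - 1) := IsPrimitiveRoot.coe_units_iff.1 hw
  obtain ⟨hb2, hbne, ha3⟩ := omega_pow_sq hq hω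
  set a := ω ^ (q ^ 3 + 1) with hadef
  set b := ω ^ (q ^ 4 + q ^ 2 + 1) with hbdef
  set β : F := (↑b⁻¹ : F) with hβdef
  have hβ0 : β ≠ 0 := Units.ne_zero _
  have hββ : (β ^ q) ^ q = β := by
    rw [hβdef, ← Units.val_pow_eq_pow_val, ← Units.val_pow_eq_pow_val, inv_pow, inv_pow, hb2]
  set t : F := β + β ^ q with htdef
  have htq : t ^ q = t := by
    rw [htdef, hqdef, add_pow_expChar_pow, ← hqdef, hββ, add_comm]
  have hδ : β ^ q - β ≠ 0 := sub_ne_zero.2 fun h => hbne (by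
    rw [hβdef, ← Units.val_pow_eq_pow_val, inv_pow] at h
    exact inv_injective (Units.ext h))
  set δ : F := β ^ q - β with hδdef
  have hδq : δ ^ q = -δ := by
    rw [hδdef, hqdef, sub_pow_expChar_pow, ← hqdef, hββ, neg_sub]
  -- descent of the entries
  obtain ⟨tK, htK⟩ := mem_range_of_pow_card f (x := t) (by rw [hn, pow_mul, pow_mul, htq, htq, htq])
  obtain ⟨aK', haK'⟩ := mem_range_of_pow_card f (x := (a : F)) (by
    rw [hn, pow_mul, pow_mul, ← Units.val_pow_eq_pow_val, ← Units.val_pow_eq_pow_val,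
      ← Units.val_pow_eq_pow_val, ha3])
  obtain ⟨aK, rfl⟩ : ∃ aK : Kˣ, (aK : K) = aK' :=
    ⟨Units.mk0 aK' fun h => a.ne_zero (by rw [← haK', h, map_zero]), rfl⟩
  have haK : Units.map (f : K →* F) aK = a := Units.ext haK'
  have haK3 : ((aK ^ q) ^ q) ^ q = aK :=
    Units.ext (f.injective (by
      simp only [Units.val_pow_eq_pow_val, map_pow, haK']
      simp only [← Units.val_pow_eq_pow_val]
      exact congrArg Units.val ha3))
  have htKq : tK ^ q = tK := f.injective (by rw [map_pow, htK, htq])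
  -- the element over `K`
  set cK : Fin chevD4.rank → Kˣ := fun j => [aK, 1, aK ^ q, (aK ^ q) ^ q].getD j.val 1 with hcK
  have hcKfix : cK ∈ fixTorus piD4 (fun _ => q) := by
    rw [mem_fixTorus]
    obtain ⟨e0, e1, e2, e3⟩ := piD4_vals
    intro j
    rcases nodeD4_cases j with rfl | rfl | rfl | rfl
    · rw [e0]; rfl
    · rw [e1]; simp [hcK, nodeD4]
    · rw [e2]; rfl
    · rw [e3]; exact haK3.symm
  set MK : Matrix.SpecialLinearGroup (Fin 2) K := slX (-1) * slY 1 * slX (-1) * slX tK with hMK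
  set gK := (coreD4 K).R.torus cK * (coreD4 K).slHom i1 (etaNegD4 K) MK with hgK
  have hgen : ∀ r ∈ [d4p2, d4m2], ∀ u : K, u ^ q = u →
      (coreD4 K).xGL r u ∈ twistedD4 K q := by
    intro r hr u hu
    have h := (coreD4 K).wordGL_mem_gen (W := d4Words K q) (Or.inl ⟨u, hu, r, hr, rfl⟩)
    simp only [ChevCore.wordGL_cons, ChevCore.wordGL_nil, mul_one] at h
    exact h
  obtain ⟨-, s1, -, -, -, m1, -, -⟩ := d4_simples
  have hgKmem : gK ∈ twistedD4 K q := by
    refine mul_mem (fixTorus_leD4 K hn cK hcKfix) ?_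
    have hX : ∀ u : K, u ^ q = u → (coreD4 K).slHom i1 (etaNegD4 K) (slX u) ∈ twistedD4 K q :=
      fun u hu => by
        rw [slHom_slX, rX]
        show (coreD4 K).xGL (chevD4.simple 1) u ∈ _
        rw [s1]
        exact hgen _ (by simp) u hu
    have hY : ∀ u : K, u ^ q = u → (coreD4 K).slHom i1 (etaNegD4 K) (slY u) ∈ twistedD4 K q :=
      fun u hu => by
        rw [slHom_slY, rY]
        show (coreD4 K).xGL (chevD4.neg (chevD4.simple 1)) u ∈ _
        rw [s1, m1]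
        exact hgen _ (by simp) u hu
    have hm1 : (-1 : K) ^ q = -1 := neg_one_pow_expChar p n
    rw [hMK, map_mul, map_mul, map_mul]
    exact mul_mem (mul_mem (mul_mem (hX _ hm1) (hY _ (one_pow _))) (hX _ hm1)) (hX _ htKq)
  -- conjugation into the torus over `F`
  set c0 := triTuple q ω with hc0
  obtain ⟨t0, t1, t2, t3⟩ := triTuple_vals q ω
  set h0 : Fin chevD4.rank → Fˣ := fun j => [a, 1, a ^ q, (a ^ q) ^ q].getD j.val 1 with hh0
  set A := mkSL (-β / δ) (-(β ^ q)) (1 / δ) 1 (det_conjMat hδ) with hA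
  set g := φ A with hg
  have hgG : g ∈ chevD4.group F := slHom_mem_group C i1 _ _
  have hident : mapGL f gK = g * C.R.torus c0 * g⁻¹ := by
    have hsplit : c0 = h0 * Pi.mulSingle i1 b := by
      funext j
      rcases nodeD4_cases j with rfl | rfl | rfl | rfl
      · rw [hc0, t0]; simp [hh0, i1, nodeD4, hadef, Fin.ext_iff]
      · rw [hc0, t1]; simp [hh0, i1, nodeD4, hbdef]
      · rw [hc0, t2]; simp [hh0, i1, nodeD4, hadef, Fin.ext_iff]
      · rw [hc0, t3]; simp [hh0, i1, nodeD4, hadef, Fin.ext_iff]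
    have hχ : C.R.torusChar h0⁻¹ (C.R.α (chevD4.simple i1.val)) = b ^ (q + 1) := by
      obtain ⟨-, b0, b1, b2, b3⟩ := d4_rows
      rw [C.R.torusChar_root _ (C.R.simple_lt i1), prod_nodeD4]
      simp only [i1, nodeD4, b0, b1, b2, b3, Pi.inv_apply, hh0, List.getD_cons_zero,
        List.getD_cons_succ, zpow_neg_one, inv_inv, inv_one, one_zpow, mul_one]
      simp only [hadef, hbdef, ← pow_mul, ← pow_add]
      congr 1
      ring
    have h1 : mapGL f ((coreD4 K).R.torus cK) = C.R.torus h0 := by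
      refine (mapGL_torus_hom (coreD4 K).R f cK).trans ?_
      show C.R.torus _ = _
      congr 1
      funext j
      rcases nodeD4_cases j with rfl | rfl | rfl | rfl <;>
        simp [hcK, hh0, nodeD4, haK, map_pow]
    rw [hgK, map_mul, h1, mapGL_slHom C i1 (etaNegD4 F) (coreD4 K), hsplit, map_mul C.R.torus,
      show C.R.torus (Pi.mulSingle i1 b) = C.R.torusSingle i1 b from rfl,
      ← slHom_diag C i1 (etaNegD4 F) b (by rw [mul_zero, sub_zero, Units.mul_inv]), ← hφ]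
    have hA' : φ (slDiag (b ^ (q + 1)) A) = (C.R.torus h0)⁻¹ * g * C.R.torus h0 := by
      rw [← hχ, ← torus_conj_slHom C i1 (etaNegD4 F), map_inv, inv_inv]
    rw [← mul_assoc g (C.R.torus h0),
      show g * C.R.torus h0 = C.R.torus h0 * φ (slDiag (b ^ (q + 1)) A) by rw [hA']; group,
      mul_assoc (C.R.torus h0), mul_assoc (C.R.torus h0), hg, ← map_inv, ← map_mul, ← map_mul]
    congr 2
    rw [eq_mul_inv_iff_mul_eq, hMK, hA]
    have e2 : (((b ^ (q + 1))⁻¹ : Fˣ) : F) = β ^ q * β := by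
      rw [hβdef, ← pow_succ, ← Units.val_pow_eq_pow_val, inv_pow]
    have hM : Matrix.SpecialLinearGroup.map f (slX (-1) * slY 1 * slX (-1) * slX tK) =
        slX (-1) * slY 1 * slX (-1) * slX (β + β ^ q) := by
      have hx : ∀ u : K, Matrix.SpecialLinearGroup.map f (slX u) = slX (f u) := fun u => by
        ext i j; fin_cases i <;> fin_cases j <;> simp
      have hy : ∀ u : K, Matrix.SpecialLinearGroup.map f (slY u) = slY (f u) := fun u => by
        ext i j; fin_cases i <;> fin_cases j <;> simp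
      simp only [map_mul, hx, hy, map_neg, map_one, htK, htdef]
    rw [hM]
    exact conjMat_ident hδ hβ0 (pow_ne_zero _ hβ0) _ (b ^ (q + 1)) b e2 rfl _
  set x0 : ↥(twistedD4 K q) := ⟨gK, hgKmem⟩ with hx0
  have hxpow : ∀ k : ℕ, mapGL f ((x0 ^ k : ↥(twistedD4 K q)) : GL chevD4.Idx K) =
      g * C.R.torus (c0 ^ k) * g⁻¹ := fun k => by
    rw [SubgroupClass.coe_pow, map_pow, hident, conj_pow, map_pow]
  have hinj : ∀ {x y : ↥(twistedD4 K q)},
      mapGL f (x : GL chevD4.Idx K) = mapGL f (y : GL chevD4.Idx K) → x = y :=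
    fun h => Subtype.ext (mapGL_injective f h)
  have hord : ∀ k : ℕ, x0 ^ k = 1 ↔ (q ^ 3 - 1) * (q + 1) ∣ k := by
    intro k
    rw [← Int.natCast_dvd_natCast, Nat.cast_mul, Nat.cast_sub (show 1 ≤ q ^ 3 by omega)]
    push_cast
    rw [mul_comm, ← torus_triTuple_eq_one_iff hq hω, ← hc0, zpow_natCast, ← hC]
    constructor
    · intro h
      have h2 := hxpow k
      rw [h, OneMemClass.coe_one, map_one, eq_comm, conj_eq_one_iff] at h2
      exact h2
    · intro h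
      refine hinj ?_
      rw [hxpow, h, OneMemClass.coe_one, map_one, mul_one, mul_inv_cancel]
  have hox : orderOf x0 = (q ^ 3 - 1) * (q + 1) :=
    Nat.dvd_antisymm (orderOf_dvd_of_pow_eq_one ((hord _).2 dvd_rfl))
      ((hord _).1 (pow_orderOf_eq_one x0))
  refine ⟨Subgroup.zpowers x0, inferInstance, by rw [Nat.card_zpowers, hox],
    le_antisymm ?_ (Subgroup.le_centralizer (Subgroup.zpowers x0))⟩
  intro y hy
  have hxy : x0 * y = y * x0 :=
    Subgroup.mem_centralizer_iff.1 hy x0 (Subgroup.mem_zpowers x0)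
  obtain ⟨hyK, hyfix⟩ := le_fixedD4 K hn y.2
  set Y := mapGL f (y : GL chevD4.Idx K) with hY
  have hYG : Y ∈ chevD4.group F := group_map_le f ⟨_, hyK, rfl⟩
  have hcomm : Commute (C.R.torus c0) (g⁻¹ * Y * g) := by
    have h : mapGL f gK * Y = Y * mapGL f gK := by
      rw [hY, ← map_mul, ← map_mul]
      exact congrArg _ (congrArg Subtype.val hxy)
    rw [hident] at h
    show C.R.torus c0 * (g⁻¹ * Y * g) = g⁻¹ * Y * g * C.R.torus c0
    calc _ = g⁻¹ * (g * C.R.torus c0 * g⁻¹ * Y) * g := by group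
      _ = g⁻¹ * (Y * (g * C.R.torus c0 * g⁻¹)) * g := by rw [h]
      _ = _ := by group
  obtain ⟨c, hc⟩ := mem_torus_of_commute C (rootVal_ne_one C hq hω) (stab_trivial hq hω)
    (mul_mem (mul_mem (inv_mem hgG) hYG) hgG) hcomm
  have hYc : Y = g * C.R.torus c * g⁻¹ := by rw [hc]; group
  have htG : ∀ d : Fin chevD4.rank → Fˣ, C.R.torus d ∈ chevD4.group F := fun d =>
    C.borel_le_group (C.torus_mem_borel d)
  have hσY : (frobD4 F p n).act Y = Y := by rw [hY, act_mapGL f p n hyK, hyfix]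
  set δu : Fˣ := Units.mk0 δ hδ with hδu
  set W := mkSL 0 (δu : F) (-↑δu⁻¹) 0 (by linear_combination δu.mul_inv) with hW
  have hAW : Matrix.SpecialLinearGroup.map (iterateFrobenius F p n) A = A * W := by
    exact conjMat_frob (iterateFrobenius F p n) hδ (iterateFrobenius_def p n β)
      ((iterateFrobenius_def p n _).trans hββ) _ δu rfl _
  have hσg : (frobD4 F p n).act g = g * (C.R.torusSingle i1 δu * C.nS i1) := by
    rw [← slHom_antidiag C i1 (etaNegD4 F) δu (by linear_combination δu.mul_inv), ← hW, ← hφ, hg, ← map_mul, ← hAW]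
    exact act_slHom_centre p n A
  have hfixed : C.R.torus (reflPar C i1 (torusTwist piD4 (fun _ => q) c)) = C.R.torus c := by
    have h := hσY
    rw [hYc, (frobD4 F p n).act_mul (mul_mem hgG (htG c)) (inv_mem hgG),
      (frobD4 F p n).act_mul hgG (htG c), (frobD4 F p n).act_inv hgG, hσg,
      Frob.act_torus (frobD4 F p n) (π := piD4) (e := fun _ => q) ⟨piD4_root, fun _ => rfl⟩] at h
    rw [← antidiag_conj_torus C i1 δu]
    refine mul_left_cancel (a := g) (mul_right_cancel (b := g⁻¹) ?_)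
    rw [← h]
    group
    rfl
  obtain ⟨k, hk⟩ := exists_pow_of_fixed n hq hω hfixed
  refine ⟨k, hinj ?_⟩
  show mapGL f ((x0 ^ (k : ℤ) : ↥(twistedD4 K q)) : GL chevD4.Idx K) = _
  rw [zpow_natCast, hxpow, ← hY, hYc, hk]

end CfsgLib.RegTorus
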