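import Cfsg.Agent.Lib.RegTorus.CyclicFixed
import Cfsg.Agent.Lib.RegTorus.E6Exp
import Cfsg.Agent.Lib.RegTorus.TrialityTorus
import Cfsg.Agent.Lib.TwistedStr.Torus
import Cfsg.Agent.Lib.ChevStr.Orders
import Cfsg.Agent.Lib.ChevCover.Instance
import Cfsg.Agent.Lib.ChevCover.Subsystem
import Cfsg.Agent.Lib.TwistedStr.TorusE6

/-!
# A self-centralising cyclic torus of order `(q⁴ - q² + 1)(q² + q + 1) / (3, q - 1)` in E₆(q)
-/

set_option autoImplicit false

namespace CfsgLib.RegTorus.E6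

open Cfsg.Lie CfsgLib.ChevStr CfsgLib.ChevStr.ChevCore CfsgLib.ChevField CfsgLib.RegTorus.Coef
  CfsgLib.ChevCover CfsgLib.Twisted
open scoped MatrixGroups

/-- The order of the torus of the simply connected group. -/
def ord (q : ℤ) : ℤ := (q ^ 4 - q ^ 2 + 1) * (q ^ 2 + q + 1)

/-- The word of the Weyl element. -/
def word : List (Fin chevE6.rank) := List.finRange chevE6.rank

/-- The matrix of the Weyl element. -/
def matW (i j : Fin chevE6.rank) : ℤ :=
  tableEnt [[0, 1, 0, 0, 0, -1], [0, 0, 1, 0, 0, -1], [1, 1, 0, 0, 0, -1],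
    [0, 1, 1, 0, 0, -1], [0, 0, 0, 1, 0, -1], [0, 0, 0, 0, 1, -1]] i.val j.val

theorem wordMat_word : wordMat chevE6 word = matW := by
  funext i j
  revert i j
  decide +kernel

/-- The orbit of the first fundamental coroot. -/
def matB (i j : Fin chevE6.rank) : ℤ :=
  tableEnt [[1, 0, 0, 1, 0, 0], [0, 0, 1, 0, 1, 0], [0, 1, 0, 1, 1, 0],
    [0, 0, 1, 1, 1, 1], [0, 0, 0, 1, 1, 0], [0, 0, 0, 0, 1, 0]] i.val j.val

/-- The inverse of the orbit matrix. -/
def matBinv (i j : Fin chevE6.rank) : ℤ :=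
  tableEnt [[1, 0, 0, 0, -1, 1], [0, 0, 1, 0, -1, 0], [0, 1, 0, 0, 0, -1],
    [0, 0, 0, 0, 1, -1], [0, 0, 0, 0, 0, 1], [0, -1, 0, 1, -1, 1]] i.val j.val

theorem matB_mul : ∀ a b, ∑ k, matB a k * matBinv k b = if a = b then 1 else 0 := by decide +kernel

/-- The companion matrix of the Weyl element. -/
def comp (k j : Fin chevE6.rank) : ℤ := ∑ x, (∑ y, matBinv k y * matW y x) * matB x j

/-- The last node. -/
def last : Fin chevE6.rank := ⟨5, by decide⟩

theorem comp_lower : ∀ k j, j ≠ last → k ≤ j → k ≠ last → comp k j = 0 := by decide +kernel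

/-- The coefficients of the exponents in the cyclic basis. -/
def recL (k : ℕ) : List ℤ :=
  [[0, -1, 0, 0, 0, 0, 0], [0, -1, -1, 0, 0, 0, 0], [0, 0, -1, -1, 0, 0, 0],
    [0, 1, 0, -1, -1, 0, 0], [0, 0, 1, 0, -1, -1, 0], [1, 0, 0, 0, 0, 0, 0]].getD k []

theorem recL_length : ∀ k : Fin chevE6.rank, (recL k.val).length = 7 := by decide +kernel

/-- A linear combination of the columns of a table, as coefficient lists. -/
def combRow (M : Fin chevE6.rank → ℤ) (f : ℕ → List ℤ) : List ℤ :=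
  comb 7 ((List.finRange chevE6.rank).map fun j => (M j, f j.val))

theorem evalL_combRow (q : ℤ) (M : Fin chevE6.rank → ℤ) {f : ℕ → List ℤ}
    (hf : ∀ j : Fin chevE6.rank, (f j.val).length = 7) :
    (combRow M f).length = 7 ∧ evalL q (combRow M f) = ∑ j, M j * evalL q (f j.val) := by
  obtain ⟨h1, h2⟩ := evalL_comb q (n := 7)
    ((List.finRange chevE6.rank).map fun j => (M j, f j.val)) (by
      intro p hp
      obtain ⟨j, -, rfl⟩ := List.mem_map.1 hp
      exact hf j)
  refine ⟨h1, h2.trans ?_⟩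
  rw [List.map_map, Fin.sum_univ_def]
  rfl

theorem rec_step : ∀ k : Fin chevE6.rank, k ≠ last →
    0 :: combRow (comp k) recL = recL k.val ++ [0] := by decide +kernel

theorem rec_last : 0 :: combRow (comp last) recL =
    comb 7 [(-1, orderL), (1, [1, 0, 0, 0, 0, 0, 0])] ++ [0] := by decide +kernel

theorem expL_rec : ∀ j : Fin chevE6.rank, combRow (matB j) recL = expL.getD j.val [] := by
  decide +kernel

/-- The multiples of the order in the fixed-point equation. -/
def mult (j : Fin chevE6.rank) : ℤ := [0, 0, 0, -1, 0, 0].getD j.val 0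

theorem fixed_step : ∀ j : Fin chevE6.rank, 0 :: combRow (matW j) (fun i => expL.getD i []) =
    List.zipWith (fun x y => mult j * x + y) (orderL ++ [0]) (expL.getD j.val [] ++ [0]) := by
  decide +kernel

/-- The exponent of the generator at a fundamental coroot. -/
def expo (q : ℤ) (j : Fin chevE6.rank) : ℤ := evalL q (expL.getD j.val [])

theorem comp_rec (q : ℤ) (k : Fin chevE6.rank) (hk : k ≠ last) :
    evalL q (recL k.val) = q * ∑ j, comp k j * evalL q (recL j.val) := by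
  have h := congrArg (evalL q) (rec_step k hk)
  rw [evalL_append_zero, evalL, zero_add, (evalL_combRow q _ recL_length).2] at h
  exact h.symm

theorem comp_rec_last (q : ℤ) :
    q * ∑ j, comp last j * evalL q (recL j.val) - 1 = -ord q := by
  have h := congrArg (evalL q) rec_last
  rw [evalL_append_zero, evalL, zero_add, (evalL_combRow q _ recL_length).2,
    (evalL_comb q [((-1 : ℤ), orderL), (1, [1, 0, 0, 0, 0, 0, 0])] (by decide +kernel)).2] at h
  rw [h]
  simp only [List.map_cons, List.map_nil, List.sum_cons, List.sum_nil, evalL_orderL, evalL, ord]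
  ring

theorem expo_eq (q : ℤ) (j : Fin chevE6.rank) :
    ∑ k, matB j k * evalL q (recL k.val) = expo q j := by
  rw [← (evalL_combRow q _ recL_length).2, expL_rec j, expo]

theorem matW_expo (q : ℤ) (j : Fin chevE6.rank) :
    q * ∑ i, matW j i * expo q i = expo q j + mult j * ord q := by
  have h := congrArg (evalL q) (fixed_step j)
  rw [evalL_zipWith q _ (by rw [List.length_append, List.length_append, expL_length j]; rfl),
    evalL_append_zero, evalL_append_zero, evalL, zero_add, evalL_orderL,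
    (evalL_combRow q _ (f := fun i => expL.getD i []) expL_length).2] at h
  simp only [expo, ord]
  rw [h]
  ring

variable {F : Type*} [Field F]

/-- The generator of the torus as a tuple, from a root of unity. -/
def gen (q : ℕ) (ω : Fˣ) (j : Fin chevE6.rank) : Fˣ := ω ^ expo (q : ℤ) j

theorem two_le_ord {q : ℕ} (hq : 2 ≤ q) : (2 : ℤ) ≤ ord q := by
  have h : (2 : ℤ) ≤ (q : ℤ) := by exact_mod_cast hq
  have h1 : (1 : ℤ) ≤ (q : ℤ) ^ 4 - (q : ℤ) ^ 2 + 1 := by
    nlinarith [sq_nonneg ((q : ℤ) ^ 2 - 1), sq_nonneg (q : ℤ)]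
  have h2 : (2 : ℤ) ≤ (q : ℤ) ^ 2 + (q : ℤ) + 1 := by nlinarith
  unfold ord
  nlinarith

variable {q : ℕ} {ω : Fˣ}

theorem zpow_eq_one_iff (hq : 2 ≤ q) (hω : IsPrimitiveRoot ω (ord q).toNat) (e : ℤ) :
    ω ^ e = 1 ↔ ord q ∣ e := by
  rw [hω.zpow_eq_one_iff_dvd, Int.toNat_of_nonneg (by linarith [two_le_ord hq])]

theorem wordPar_gen (C : ChevCore chevE6 F) (hq : 2 ≤ q)
    (hω : IsPrimitiveRoot ω (ord q).toNat) : wordPar C word (gen q ω ^ q) = gen q ω := by
  rw [wordPar_eq_monMap, wordMat_word]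
  have e : gen q ω ^ q = fun j => ω ^ ((q : ℤ) * expo q j) := funext fun j => by
    rw [Pi.pow_apply, gen, ← zpow_natCast, ← zpow_mul, mul_comm]
  rw [e, monMap_zpow_const]
  funext j
  rw [show ∑ i, matW j i * ((q : ℤ) * expo q i) = (q : ℤ) * ∑ i, matW j i * expo q i by
      rw [Finset.mul_sum]; exact Finset.sum_congr rfl fun i _ => by ring,
    matW_expo, zpow_add, gen, (zpow_eq_one_iff hq hω (mult j * ord q)).2 (dvd_mul_left _ _),
    mul_one]

theorem exists_zpow (C : ChevCore chevE6 F) (hq : 2 ≤ q) (hω : IsPrimitiveRoot ω (ord q).toNat)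
    {c : Fin chevE6.rank → Fˣ} (hc : wordPar C word (c ^ q) = c) : ∃ k : ℤ, c = gen q ω ^ k := by
  rw [wordPar_eq_monMap, wordMat_word] at hc
  obtain ⟨x, hx, hcx⟩ := exists_zpow_of_fixed (last := last) matB_mul comp_lower q
    (e := fun k => evalL (q : ℤ) (recL k.val)) (comp_rec q) (by simp [recL, last, evalL]) hc
  have hx' : x ^ ((q : ℤ) * ∑ j, comp last j * evalL (q : ℤ) (recL j.val) - 1) = 1 := hx
  have hN : ((ord q).toNat : ℤ) = ord q := Int.toNat_of_nonneg (by linarith [two_le_ord hq])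
  rw [comp_rec_last, zpow_neg, inv_eq_one] at hx'
  rw [← hN, zpow_natCast] at hx'
  have : NeZero (ord q).toNat := ⟨by have := two_le_ord hq; omega⟩
  obtain ⟨i, -, rfl⟩ := hω.eq_pow_of_mem_rootsOfUnity (by simpa using hx')
  refine ⟨i, hcx.trans (funext fun j => ?_)⟩
  rw [expo_eq, Pi.pow_apply, gen, ← zpow_natCast, ← zpow_mul, ← zpow_mul, mul_comm]

theorem rootVal_gen (C : ChevCore chevE6 F) (k : ℤ) {r : ℕ} (hr : r < chevE6.nroots) :
    C.R.torusChar (gen q ω ^ k) (C.R.α r) = ω ^ (rootExp q r * k) := by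
  rw [C.R.torusChar_root _ hr, rootExp, Finset.sum_mul, ← prod_zpow_eq]
  refine Finset.prod_congr rfl fun j _ => ?_
  rw [Pi.pow_apply, gen, ← zpow_mul, ← zpow_mul]
  congr 1
  show _ = chevE6.cartan j.val r * expo (q : ℤ) j * k
  ring

theorem rootVal_ne_one (C : ChevCore chevE6 F) (hq : 2 ≤ q) (hω : IsPrimitiveRoot ω (ord q).toNat) :
    ∀ r < chevE6.nroots, rootVal C (gen q ω) r ≠ 1 := by
  intro r hr h
  have h1 : C.R.torusChar (gen q ω ^ (1 : ℤ)) (C.R.α r) = 1 := by rw [zpow_one]; exact Units.ext h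
  rw [rootVal_gen C 1 hr, zpow_eq_one_iff hq hω, mul_one] at h1
  exact rootExp_ne hq hr h1

/-- The roots with a value of their own, for `q = 2`. -/
def uniqRoot (k : Fin chevE6.rank) : Fin chevE6.nroots :=
  ⟨uniq.getD k.val 0 % chevE6.nroots, Nat.mod_lt _ (by rw [nroots_rank.1]; norm_num)⟩

theorem uniqRoot_spec : ∀ k : Fin chevE6.rank, (uniqRoot k).val = uniq.getD k.val 0 := by
  decide +kernel

theorem uniq_inv : ∀ a b : Fin chevE6.rank,
    ∑ k, rootDataE6.α (uniqRoot k).val a * tableEnt uniqInv k.val b.val = if a = b then 1 else 0 := by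
  decide +kernel

theorem stab_trivial (hq : 2 ≤ q) (hω : IsPrimitiveRoot ω (ord q).toNat) :
    ∀ w ∈ (coreE6 F).hR.weyl, (∀ s : Fin chevE6.nroots, rootVal (coreE6 F) (gen q ω) (w s) =
      rootVal (coreE6 F) (gen q ω) s) → w = 1 := by
  intro w hw hval
  set C := coreE6 F with hC
  have key : ∀ a b : ℤ, ω ^ (a * 1) = ω ^ (b * 1) → ord q ∣ a - b := fun a b h => by
    rw [mul_one, mul_one] at h
    rw [← zpow_eq_one_iff hq hω, _root_.zpow_sub, h, mul_inv_cancel]
  have hdvd : ∀ s : Fin chevE6.nroots, ord q ∣ rootExp q (w s).val - rootExp q s.val := by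
    intro s
    have h : C.R.torusChar (gen q ω ^ (1 : ℤ)) (C.R.α (w s).val) =
        C.R.torusChar (gen q ω ^ (1 : ℤ)) (C.R.α s.val) := by
      rw [zpow_one]; exact Units.ext (hval s)
    rw [rootVal_gen C 1 (w s).isLt, rootVal_gen C 1 s.isLt] at h
    exact key _ _ h
  by_cases h2 : q = 2
  · subst h2
    have hfix : ∀ k : Fin chevE6.rank, w (uniqRoot k) = uniqRoot k := by
      intro k
      by_contra hne
      have hm : (uniqRoot k).val ∈ uniq := by
        rw [uniqRoot_spec, List.getD_eq_getElem _ _ (by rw [show uniq.length = 6 from rfl, ← nroots_rank.2]; exact k.isLt)]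
        exact List.getElem_mem _
      have hc := two_uniq
      simp only [List.all_eq_true, List.mem_range, Bool.or_eq_true, beq_iff_eq,
        decide_eq_true_eq] at hc
      have hlt : ∀ s : Fin chevE6.nroots, s.val < 72 := fun s => nroots_rank.1 ▸ s.isLt
      rcases hc _ hm _ (hlt (w (uniqRoot k))) with h | h
      · exact hne (Fin.ext h.symm)
      · refine h (Int.emod_eq_emod_iff_emod_sub_eq_zero.2 (Int.emod_eq_zero_of_dvd ?_))
        rw [rootTab_getD (hlt _), rootTab_getD (hlt _), ← (rootExp_eq _ _).1, ← (rootExp_eq _ _).1,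
          ← dvd_neg, neg_sub]
        have := hdvd (uniqRoot k)
        norm_num [ord] at this ⊢
        exact this
    refine CycTorus.eq_one_of_wMat C.hR hw ?_
    let U : Matrix (Fin chevE6.rank) (Fin chevE6.rank) ℤ :=
      Matrix.of fun a k => C.R.α (uniqRoot k).val a
    have hU : CycTorus.wMat C.R w * U = U := by
      ext a k
      have h := congrFun (CycTorus.wMat_mulVec C.hR hw (uniqRoot k)) a
      rw [hfix k] at h
      exact h
    have hUinv : U * Matrix.of (fun k b : Fin chevE6.rank => tableEnt uniqInv k.val b.val) = 1 := by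
      ext a b
      rw [Matrix.mul_apply, Matrix.one_apply]
      exact uniq_inv a b
    calc CycTorus.wMat C.R w = CycTorus.wMat C.R w * (U * Matrix.of (fun k b : Fin chevE6.rank =>
          tableEnt uniqInv k.val b.val)) := by rw [hUinv, mul_one]
      _ = 1 := by rw [← Matrix.mul_assoc, hU, hUinv]
  · refine Equiv.ext fun s => Fin.ext ?_
    exact rootExp_inj (by omega) (w s).isLt s.isLt (hdvd s)

theorem simple_rows : rootL (chevE6.simple 0) = [0, 0, 0, -1, 0, 1, 0] ∧
    rootL (chevE6.simple 1) = [-1, -1, 0, 0, 0, -1, 0] ∧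
    rootL (chevE6.simple 5) = [0, -1, 1, 1, 0, -1, 0] ∧
    ∀ i : Fin chevE6.rank, (rootL (chevE6.simple i.val)).sum % 3 = 0 := by decide +kernel

theorem torus_gen_eq_one_iff (C : ChevCore chevE6 F) (hq : 2 ≤ q)
    (hω : IsPrimitiveRoot ω (ord q).toNat) (k : ℤ) :
    C.R.torus (gen q ω ^ k) = 1 ↔ ord q ∣ (Nat.gcd 3 (q - 1) : ℕ) * k := by
  have key : ∀ i : Fin chevE6.rank, monMap (fun a j => chevE6.cartan j.val (chevE6.simple a.val))
      (gen q ω ^ k) i = 1 ↔ ord q ∣ rootExp q (chevE6.simple i.val) * k := by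
    intro i
    rw [← zpow_eq_one_iff hq hω, ← rootVal_gen C k (C.R.simple_lt i),
      C.R.torusChar_root _ (C.R.simple_lt i), monMap]
  rw [C.torus_eq_one_iff]
  constructor
  · intro h
    have h0 := (key ⟨0, by decide⟩).1 (congrFun h _)
    have h1 := (key ⟨1, by decide⟩).1 (congrFun h _)
    rw [(rootExp_eq _ _).1, simple_rows.1] at h0
    rw [(rootExp_eq _ _).1, simple_rows.2.1] at h1
    simp only [evalL, mul_zero, add_zero, zero_add, mul_one] at h0 h1
    set Q : ℤ := (q : ℤ)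
    have hco : IsCoprime (ord Q) Q := ⟨1, -(1 - Q ^ 2 + Q ^ 4 + Q ^ 5), by unfold ord; ring⟩
    have a0 : ord Q ∣ (Q ^ 2 - 1) * k := (hco.pow_right (n := 3)).dvd_of_dvd_mul_left (by
      rw [show Q ^ 3 * ((Q ^ 2 - 1) * k) = Q * (Q * (Q * (-1 + Q * Q))) * k by ring]; exact h0)
    have a2 : ord Q ∣ (Q + 2) * k := by
      rw [show (Q + 2) * k = ord Q * k - (Q ^ 2 - 1) * k * (Q ^ 4 + Q ^ 3 + Q ^ 2 + 1) by
        unfold ord; ring]
      exact dvd_sub (dvd_mul_right _ _) (a0.mul_right _)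
    have a3 : ord Q ∣ 3 * k := by
      rw [show 3 * k = (Q ^ 2 - 1) * k - (Q + 2) * k * (Q - 2) by ring]
      exact dvd_sub a0 (a2.mul_right _)
    have a1 : ord Q ∣ (Q - 1) * k := by
      rw [show (Q - 1) * k = (Q + 2) * k - 3 * k by ring]
      exact dvd_sub a2 a3
    rw [Nat.gcd_eq_gcd_ab, Nat.cast_sub (show 1 ≤ q by omega), Nat.cast_one, add_mul]
    refine dvd_add ?_ ?_
    · rw [mul_right_comm]; exact a3.mul_right _
    · rw [mul_right_comm]; exact a1.mul_right _
  · intro h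
    funext i
    refine (key i).2 ?_
    have hg : ((Nat.gcd 3 (q - 1) : ℕ) : ℤ) ∣ rootExp q (chevE6.simple i.val) := by
      rcases (Nat.dvd_prime Nat.prime_three).1 (Nat.gcd_dvd_left 3 (q - 1)) with hg | hg
      · rw [hg]; exact one_dvd _
      · rw [hg, (rootExp_eq _ _).1]
        have hd : (3 : ℤ) ∣ (q : ℤ) - 1 := by
          have h' := Int.natCast_dvd_natCast.2 (hg ▸ Nat.gcd_dvd_right 3 (q - 1))
          rwa [Nat.cast_sub (show 1 ≤ q by omega), Nat.cast_one] at h'
        have hs := simple_rows.2.2.2 i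
        have := dvd_add (dvd_evalL_sub_sum hd (rootL (chevE6.simple i.val)))
          (Int.dvd_of_emod_eq_zero hs)
        rwa [sub_add_cancel] at this
    exact h.trans (mul_dvd_mul_right hg k)

theorem ord_eq (hq : 2 ≤ q) : (ord q).toNat = (q ^ 4 - q ^ 2 + 1) * (q ^ 2 + q + 1) := by
  rw [← Int.toNat_natCast ((q ^ 4 - q ^ 2 + 1) * (q ^ 2 + q + 1))]
  congr 1
  rw [ord, Nat.cast_mul, Nat.cast_add, Nat.cast_sub (Nat.pow_le_pow_right (by omega) (by norm_num))]
  push_cast
  ring

theorem gcd_dvd_ord (hq : 2 ≤ q) : Nat.gcd 3 (q - 1) ∣ (ord q).toNat := by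
  rw [ord_eq hq]
  refine Dvd.dvd.mul_left ?_ _
  rcases (Nat.dvd_prime Nat.prime_three).1 (Nat.gcd_dvd_left 3 (q - 1)) with hg | hg
  · rw [hg]; exact one_dvd _
  · rw [hg]
    have h := hg ▸ Nat.gcd_dvd_right 3 (q - 1)
    obtain ⟨m, rfl⟩ : ∃ m, q = 3 * m + 1 := ⟨(q - 1) / 3, by omega⟩
    exact ⟨3 * m ^ 2 + 3 * m + 1, by ring⟩

theorem orderOf_gen (C : ChevCore chevE6 F) (hq : 2 ≤ q) (hω : IsPrimitiveRoot ω (ord q).toNat) :
    orderOf (C.R.torus (gen q ω)) = (ord q).toNat / Nat.gcd 3 (q - 1) := by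
  set g := Nat.gcd 3 (q - 1)
  set N := (ord q).toNat with hN
  have hNq : ((N : ℕ) : ℤ) = ord q := Int.toNat_of_nonneg (by linarith [two_le_ord hq])
  have hg : 0 < g := Nat.gcd_pos_of_pos_left _ (by norm_num)
  have hiff : ∀ k : ℕ, C.R.torus (gen q ω) ^ k = 1 ↔ N / g ∣ k := fun k => by
    rw [← map_pow, ← zpow_natCast, torus_gen_eq_one_iff C hq hω, ← hNq, ← Nat.cast_mul,
      Int.natCast_dvd_natCast]
    conv_lhs => rw [← Nat.mul_div_cancel' (show g ∣ N from gcd_dvd_ord hq)]
    exact Nat.mul_dvd_mul_iff_left hg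
  exact Nat.dvd_antisymm (orderOf_dvd_of_pow_eq_one ((hiff _).2 dvd_rfl))
    ((hiff _).1 (pow_orderOf_eq_one _))

/-- A self-centralising cyclic subgroup of E₆ over a finite field. -/
theorem exists_cyclic_torus_E6 (K : Type*) [Field K] [Fintype K] (q : ℕ) (hK : Fintype.card K = q) :
    ∃ H : Subgroup ↥(chevE6.group K), IsCyclic ↥H ∧
      Nat.card ↥H = (q ^ 4 - q ^ 2 + 1) * (q ^ 2 + q + 1) / Nat.gcd 3 (q - 1) ∧
      Subgroup.centralizer (H : Set ↥(chevE6.group K)) = H := by
  classical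
  subst hK
  set q := Fintype.card K with hqdef
  have hq : 2 ≤ q := Fintype.one_lt_card
  obtain ⟨p, hp⟩ := CharP.exists K
  have hprime : Fact p.Prime := ⟨CharP.char_is_prime K p⟩
  obtain ⟨n, -, hcard⟩ := FiniteField.card K p
  set F := AlgebraicClosure K
  set f : K →+* F := algebraMap K F
  have : CharP F p := charP_of_injective_ringHom f.injective p
  have : ExpChar F p := ExpChar.prime Fact.out
  have hqF : (q : F) = 0 := by
    rw [hqdef, hcard, Nat.cast_pow, CharP.cast_eq_zero F p, zero_pow n.ne_zero]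
  have : NeZero ((ord q).toNat : F) := ⟨by
    rw [ord_eq hq, Nat.cast_mul, Nat.cast_add,
      Nat.cast_sub (Nat.pow_le_pow_right (by omega) (by norm_num))]
    simp [hqF]⟩
  obtain ⟨w, hw⟩ := HasEnoughRootsOfUnity.exists_primitiveRoot F (ord q).toNat
  obtain ⟨ω, rfl⟩ : ∃ ω : Fˣ, (ω : F) = w :=
    ⟨(hw.isUnit (by have := two_le_ord hq; omega)).unit, rfl⟩
  have hω : IsPrimitiveRoot ω (ord q).toNat := IsPrimitiveRoot.coe_units_iff.1 hw
  let σ : F ≃+* F := iterateFrobeniusEquiv F p n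
  have hσ : ∀ x, σ x = x ^ q := fun x => by
    rw [hqdef, hcard]
    exact iterateFrobeniusEquiv_def F p n x
  obtain ⟨x, hx, hcent⟩ := exists_twisted_torus f (coreE6 K) (coreE6 F) (hasNeighbours (by simp))
    embE6 (coreE8 F) (ChevCover.torus_injective_of_smith (coreE8 F) smithE8 (by decide +kernel))
    (m := 3) (by norm_num)
    (fun c hc => pow_eq_one_of_torus _ 3 invE6_spec hc)
    σ (by omega) hσ (fun a => by rw [hσ, ← map_pow, hqdef, FiniteField.pow_card])
    (fun y hy => mem_range_of_pow_card f (by rw [← hσ, hy])) word (gen q ω)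
    (wordPar_gen _ hq hω) (fun c hc => exists_zpow _ hq hω hc) (rootVal_ne_one _ hq hω)
    (stab_trivial hq hω)
  refine ⟨Subgroup.zpowers x, inferInstance, ?_, hcent⟩
  rw [Nat.card_zpowers, hx, orderOf_gen _ hq hω, ord_eq hq]

end CfsgLib.RegTorus.E6
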