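import Cfsg.Agent.Lib.RegTorus.E7Table

/-! The differences involving the first roots of the table. -/

set_option autoImplicit false

namespace CfsgLib.RegTorus.E7

set_option maxHeartbeats 1000000 in
theorem diff_head : headsSmall 37 rootTab = true := by decide +kernel

end CfsgLib.RegTorus.E7
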