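import Cfsg.Agent.Lib.RegTorus.E7DiffA

/-! The differences among the remaining roots of the table. -/

set_option autoImplicit false

namespace CfsgLib.RegTorus.E7

set_option maxHeartbeats 1000000 in
theorem diff_tail : pairsSmall (rootTab.drop 37) = true := by decide +kernel

/-- All differences of the table are small and nonzero. -/
theorem diff_check : pairsSmall rootTab = true := pairsSmall_of_split 37 diff_head diff_tail

end CfsgLib.RegTorus.E7
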