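import Cfsg.Agent.Lib.ChevStr.InstanceTables
import Cfsg.Agent.Lib.RegTorus.E7DiffB

/-!
# Exponents of the torus of order `(q⁴ - q² + 1)(q³ + 1)` of the simply connected E₇(q)

The Weyl element is minus a Coxeter element of the subsystem E₆; the last fundamental coroot is a
cyclic vector, so the fixed parameters of the twisted torus are the powers of one of them, whose
exponents are polynomials in `q`, given by their coefficient lists.
-/

set_option autoImplicit false

namespace CfsgLib.RegTorus.E7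

open Cfsg.Lie CfsgLib.ChevStr CfsgLib.RegTorus.Coef

theorem evalL_orderL (q : ℤ) : evalL q orderL = (q ^ 4 - q ^ 2 + 1) * (q ^ 3 + 1) := by
  simp only [orderL, evalL]; ring

theorem not_dvd_evalL {q : ℤ} (hq : 6 ≤ q) {l : List ℤ} (hlen : l.length = 7)
    (hb : ∀ a ∈ l, |a| ≤ 4) (hne : ∃ a ∈ l, a ≠ 0) :
    ¬ (q ^ 4 - q ^ 2 + 1) * (q ^ 3 + 1) ∣ evalL q l := by
  intro hdvd
  refine evalL_ne (by linarith) (fun a ha => lt_of_le_of_lt (hb a ha) (by linarith)) hne ?_
  refine Int.eq_zero_of_abs_lt_dvd hdvd ?_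
  have h := abs_evalL_le (by linarith) hb (q := q) (l := l)
  rw [hlen] at h
  refine lt_of_mul_lt_mul_right (lt_of_le_of_lt h ?_) (by linarith : (0 : ℤ) ≤ q - 1)
  nlinarith [mul_le_mul_of_nonneg_left hq (by positivity : (0 : ℤ) ≤ q ^ 6),
    mul_le_mul_of_nonneg_left hq (by positivity : (0 : ℤ) ≤ q ^ 4),
    mul_le_mul_of_nonneg_left hq (by positivity : (0 : ℤ) ≤ q ^ 2),
    sq_nonneg (q ^ 2), sq_nonneg (q ^ 3), pow_le_pow_right₀ (by linarith : (1 : ℤ) ≤ q) (by norm_num : 2 ≤ 4)]

/-- The exponents of the generator at the fundamental coroots. -/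
def expL : List (List ℤ) :=
  [[0, -1, 0, 1, -1, -1, 1, -1], [0, -1, 1, 1, -2, 0, 2, -2], [0, -2, 1, 2, -3, -1, 3, -2],
    [0, -3, 2, 2, -5, 0, 4, -4], [0, -3, 2, 2, -4, 0, 3, -3], [0, -2, 2, 1, -3, 0, 2, -2],
    [0, -1, 1, 0, -1, 0, 1, -1]]

/-- The coefficients of the exponent of a root value. -/
def rootL (r : ℕ) : List ℤ :=
  comb 8 ((List.finRange chevE7.rank).map fun j => (chevE7.cartan j.val r, expL.getD j.val []))

/-- The exponent of the value of a root at the generator. -/
def rootExp (q : ℤ) (r : ℕ) : ℤ :=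
  ∑ j : Fin chevE7.rank, chevE7.cartan j.val r * evalL q (expL.getD j.val [])

theorem evalL_redL (q : ℤ) : ∀ {a b : List ℤ}, a.length = 8 → b.length = 8 →
    evalL q a - evalL q b =
      evalL q (redL a b) + (a.getD 7 0 - b.getD 7 0) * ((q ^ 4 - q ^ 2 + 1) * (q ^ 3 + 1)) := by
  intro a b ha hb
  match a, ha with
  | [a0, a1, a2, a3, a4, a5, a6, a7], _ =>
    match b, hb with
    | [b0, b1, b2, b3, b4, b5, b6, b7], _ =>
      simp [redL, orderL, evalL]
      ring

theorem expL_length : ∀ j : Fin chevE7.rank, (expL.getD j.val []).length = 8 := by decide +kernel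

theorem rootExp_eq (q : ℤ) (r : ℕ) : rootExp q r = evalL q (rootL r) ∧ (rootL r).length = 8 := by
  obtain ⟨h1, h2⟩ := evalL_comb q (n := 8) ((List.finRange chevE7.rank).map fun j =>
    (chevE7.cartan j.val r, expL.getD j.val [])) (by
      intro p hp
      obtain ⟨j, -, rfl⟩ := List.mem_map.1 hp
      exact expL_length j)
  refine ⟨?_, h1⟩
  rw [rootL, h2, List.map_map, rootExp, Fin.sum_univ_def]
  rfl


theorem rootTab_eq : (List.range 126).map rootL = rootTab := by decide +kernel

theorem pairsSmall_spec : ∀ {L : List (List ℤ)}, pairsSmall L = true → ∀ {i j : ℕ},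
    i < L.length → j < L.length → i ≠ j → small (redL (L.getD i []) (L.getD j [])) = true
  | [], _, _, _, hi, _, _ => by simp at hi
  | a :: l, h, i, j, hi, hj, hne => by
    simp only [pairsSmall, Bool.and_eq_true, List.all_eq_true] at h
    have hget : ∀ {k}, k < l.length → l.getD k [] ∈ l := fun {k} hk => by
      rw [List.getD_eq_getElem _ _ hk]; exact List.getElem_mem _
    match i, j with
    | 0, 0 => exact absurd rfl hne
    | 0, j + 1 =>
      rw [List.getD_cons_zero, List.getD_cons_succ]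
      exact (h.1 _ (hget (by simpa using hj))).1
    | i + 1, 0 =>
      rw [List.getD_cons_zero, List.getD_cons_succ]
      exact (h.1 _ (hget (by simpa using hi))).2
    | i + 1, j + 1 =>
      rw [List.getD_cons_succ, List.getD_cons_succ]
      exact pairsSmall_spec h.2 (by simpa using hi) (by simpa using hj) (by omega)

theorem root_check : (rootTab.all fun a => small (redL a (List.replicate 8 0))) = true := by
  decide +kernel

theorem small_ne : ([2, 3, 4, 5] : List ℤ).all (fun q => rootTab.all fun a =>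
    decide (evalL q a % evalL q orderL ≠ 0)) = true := by decide +kernel

theorem small_inj : ([3, 4, 5] : List ℤ).all (fun q =>
    decide (rootTab.map fun a => evalL q a % evalL q orderL).Nodup) = true := by decide +kernel

/-- The roots with unique value for `q = 2` used as a basis. -/
def uniq : List ℕ := [62, 60, 57, 53, 43, 48, 27]

theorem two_uniq : (uniq.all fun r => (List.range 126).all fun s =>
    r == s || decide (evalL 2 (rootTab.getD r []) % 117 ≠ evalL 2 (rootTab.getD s []) % 117)) = true := by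
  decide +kernel

/-- The inverse of the matrix of the roots with unique value. -/
def uniqInv : List (List ℤ) :=
  [[0, 0, 0, 0, 0, 1, -1], [0, 0, 0, 0, 1, -1, 0], [0, 0, 0, 1, -1, 0, 0], [0, 1, 1, -1, 0, 0, 0],
    [0, -1, 0, 0, 0, 0, 0], [1, 0, -1, 0, 0, 0, 0], [-1, 0, 0, 0, 0, 0, 0]]

theorem rootTab_getD {r : ℕ} (hr : r < 126) : rootTab.getD r [] = rootL r := by
  rw [← rootTab_eq, List.getD_eq_getElem _ _ (by simpa using hr)]
  simp

theorem rootL_mem {r : ℕ} (hr : r < 126) : rootL r ∈ rootTab := by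
  rw [← rootTab_eq]
  exact List.mem_map.2 ⟨r, List.mem_range.2 hr, rfl⟩

theorem nroots_rank : chevE7.nroots = 126 ∧ chevE7.rank = 7 := by decide +kernel

/-- Distinct roots have distinct values, for `q ≥ 3`. -/
theorem rootExp_inj {q : ℕ} (hq : 3 ≤ q) {r s : ℕ} (hr : r < chevE7.nroots) (hs : s < chevE7.nroots)
    (h : ((q : ℤ) ^ 4 - (q : ℤ) ^ 2 + 1) * ((q : ℤ) ^ 3 + 1) ∣ rootExp q r - rootExp q s) : r = s := by
  rw [nroots_rank.1] at hr hs
  by_contra hne
  obtain ⟨e1, l1⟩ := rootExp_eq (q : ℤ) r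
  obtain ⟨e2, l2⟩ := rootExp_eq (q : ℤ) s
  rw [e1, e2] at h
  by_cases h6 : 6 ≤ q
  · have hlen : rootTab.length = 126 := by decide +kernel
    have hc := pairsSmall_spec diff_check (hlen ▸ hr) (hlen ▸ hs) hne
    rw [rootTab_getD hr, rootTab_getD hs] at hc
    simp only [small, List.all_eq_true, beq_iff_eq, Bool.and_eq_true,
      List.any_eq_true, decide_eq_true_eq] at hc
    obtain ⟨⟨h1, h2⟩, h3⟩ := hc
    rw [evalL_redL _ l1 l2, dvd_add_left (dvd_mul_left _ _)] at h
    exact not_dvd_evalL (by omega) h1 (fun a ha => abs_le.2 (h2 a ha)) h3 h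
  · have hc := small_inj
    simp only [List.all_eq_true, decide_eq_true_eq] at hc
    have hmem : (q : ℤ) ∈ ([3, 4, 5] : List ℤ) := by interval_cases q <;> simp
    have hc' := hc _ hmem
    rw [← rootTab_eq, List.map_map] at hc'
    refine hne (List.inj_on_of_nodup_map hc' (List.mem_range.2 hr) (List.mem_range.2 hs) ?_)
    simp only [Function.comp]
    rw [evalL_orderL]
    exact Int.emod_eq_emod_iff_emod_sub_eq_zero.2 (Int.emod_eq_zero_of_dvd h)

/-- No root takes the value one. -/
theorem rootExp_ne {q : ℕ} (hq : 2 ≤ q) {r : ℕ} (hr : r < chevE7.nroots) :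
    ¬ ((q : ℤ) ^ 4 - (q : ℤ) ^ 2 + 1) * ((q : ℤ) ^ 3 + 1) ∣ rootExp q r := by
  rw [nroots_rank.1] at hr
  intro h
  obtain ⟨e1, l1⟩ := rootExp_eq (q : ℤ) r
  rw [e1] at h
  by_cases h6 : 6 ≤ q
  · have hc := root_check
    simp only [small, List.all_eq_true, Bool.and_eq_true, beq_iff_eq,
      List.any_eq_true, decide_eq_true_eq] at hc
    obtain ⟨⟨h1, h2⟩, h3⟩ := hc _ (rootL_mem hr)
    have e := evalL_redL (q : ℤ) l1 (List.length_replicate (n := 8) (a := (0 : ℤ)))
    have e0 : evalL (q : ℤ) (List.replicate 8 0) = 0 := by simp [evalL]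
    rw [e0, sub_zero] at e
    rw [e, dvd_add_left (dvd_mul_left _ _)] at h
    exact not_dvd_evalL (by omega) h1 (fun a ha => abs_le.2 (h2 a ha)) h3 h
  · have hc := small_ne
    simp only [List.all_eq_true, decide_eq_true_eq] at hc
    have hmem : (q : ℤ) ∈ ([2, 3, 4, 5] : List ℤ) := by interval_cases q <;> simp
    refine hc _ hmem _ (rootL_mem hr) ?_
    rw [evalL_orderL]
    exact Int.emod_eq_zero_of_dvd h

end CfsgLib.RegTorus.E7
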