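import Cfsg.Agent.Lib.RegTorus.CoefList

/-!
# The table of root exponents for the torus of order `(q⁴ - q² + 1)(q³ + 1)` of E₇(q)

The table and its large check are kept apart from the Chevalley datum to bound the memory of a build.
-/

set_option autoImplicit false

namespace CfsgLib.RegTorus.E7

open CfsgLib.RegTorus.Coef

/-- The coefficients of `(q⁴ - q² + 1)(q³ + 1)`. -/
def orderL : List ℤ := [1, 0, -1, 1, 1, -1, 0, 1]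

/-- Reduction of a difference of coefficient lists modulo the order. -/
def redL (a b : List ℤ) : List ℤ :=
  (List.zipWith (fun p n => (p.1 - p.2) - (a.getD 7 0 - b.getD 7 0) * n) (a.zip b) orderL).take 7

set_option maxHeartbeats 2000000 in
/-- The coefficient lists of all roots. -/
def rootTab : List (List ℤ) :=
  [[0, 1, 0, -1, 1, 1, -1, 1], [0, 1, -1, -1, 2, 0, -2, 1], [0, 1, -1, 0, 2, -1, -1, 2], [0, 1, -1, -1, 1, 0, -1, 1],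
    [0, 0, -1, 0, 1, 0, -1, 1], [0, 0, 0, 0, 0, 0, -1, 1], [0, 0, 0, -1, 1, 0, -1, 1], [0, 2, -1, -1, 2, 0, -1, 1],
    [0, 1, -1, 0, 2, 0, -1, 1], [0, 1, 0, 0, 1, 0, -1, 1], [0, 1, 0, -1, 2, 0, -1, 1], [0, 1, -1, -1, 1, 1, -1, 0],
    [0, 1, 0, -1, 0, 1, -1, 0], [0, 1, 0, -2, 1, 1, -1, 0], [0, 0, 0, 0, 0, 1, -1, 0], [0, 0, 0, -1, 1, 1, -1, 0],
    [0, 0, 1, -1, 0, 1, -1, 0], [0, 1, -1, 0, 1, 0, 0, 1], [0, 1, 0, 0, 0, 0, 0, 1], [0, 1, 0, -1, 1, 0, 0, 1],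
    [0, 0, 0, 1, 0, 0, 0, 1], [0, 0, 0, 0, 1, 0, 0, 1], [0, 0, 1, 0, 0, 0, 0, 1], [0, 0, 0, 0, -1, 1, 0, 0],
    [0, 0, 0, -1, 0, 1, 0, 0], [0, 0, 1, -1, -1, 1, 0, 0], [0, -1, 1, 0, -1, 1, 0, 0], [0, 1, 0, 0, 0, 1, 0, 0],
    [0, 1, 0, -1, 1, 1, 0, 0], [0, 1, 1, -1, 0, 1, 0, 0], [0, 0, 1, 0, 0, 1, 0, 0], [0, 0, 1, -1, -1, 2, 0, -1],
    [0, 0, 1, 0, -1, 1, 1, 0], [0, 1, -2, 0, 2, -1, -1, 1], [0, 1, -1, 0, 1, -1, -1, 1], [0, 1, -1, -1, 2, -1, -1, 1],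
    [0, 0, -1, 1, 1, -1, -1, 1], [0, 0, -1, 0, 2, -1, -1, 1], [0, 0, 0, 0, 1, -1, -1, 1], [0, 0, -1, 0, 0, 0, -1, 0],
    [0, 0, -1, -1, 1, 0, -1, 0], [0, 0, 0, -1, 0, 0, -1, 0], [0, -1, 0, 0, 0, 0, -1, 0], [0, 0, -1, 1, 0, -1, 0, 1],
    [0, 0, -1, 0, 1, -1, 0, 1], [0, 0, 0, 0, 0, -1, 0, 1], [0, -1, 0, 1, 0, -1, 0, 1], [0, -1, 0, 0, -1, 0, 0, 0],
    [0, 1, -1, 0, 1, 0, -1, 0], [0, 1, -1, -1, 2, 0, -1, 0], [0, 1, 0, -1, 1, 0, -1, 0], [0, 0, 0, 0, 1, 0, -1, 0],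
    [0, 0, 0, -1, 0, 1, -1, -1], [0, 1, -1, 1, 1, -1, 0, 1], [0, 1, -1, 0, 2, -1, 0, 1], [0, 1, 0, 0, 1, -1, 0, 1],
    [0, 0, 0, 1, 1, -1, 0, 1], [0, 1, -1, 0, 0, 0, 0, 0], [0, 1, -1, -1, 1, 0, 0, 0], [0, 1, 0, -1, 0, 0, 0, 0],
    [0, 0, -1, 1, 0, 0, 0, 0], [0, 0, -1, 0, 1, 0, 0, 0], [0, 0, 0, 1, -1, 0, 0, 0], [0, 0, 0, -1, 1, 0, 0, 0],
    [0, 0, 1, 0, -1, 0, 0, 0], [0, 0, 1, -1, 0, 0, 0, 0], [0, -1, 0, 1, 0, 0, 0, 0], [0, -1, 1, 1, -1, 0, 0, 0],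
    [0, -1, 1, 0, 0, 0, 0, 0], [0, 0, 0, -1, -1, 1, 0, -1], [0, -1, 0, 0, -1, 1, 0, -1], [0, -1, 1, 0, -2, 1, 0, -1],
    [0, -1, 1, -1, -1, 1, 0, -1], [0, 0, 0, 1, 0, -1, 1, 1], [0, 0, 0, 0, -1, 0, 1, 0], [0, -1, 0, 1, -1, 0, 1, 0],
    [0, -1, 1, 1, -2, 0, 1, 0], [0, -1, 1, 0, -1, 0, 1, 0], [0, 1, 0, 0, 1, 0, 0, 0], [0, 1, 0, -1, 0, 1, 0, -1],
    [0, 0, 0, 0, 0, 1, 0, -1], [0, 0, 1, 0, -1, 1, 0, -1], [0, 0, 1, -1, 0, 1, 0, -1], [0, 1, 0, 0, 0, 0, 1, 0],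
    [0, 0, 0, 1, 0, 0, 1, 0], [0, 0, 1, 1, -1, 0, 1, 0], [0, 0, 1, 0, 0, 0, 1, 0], [0, 0, 0, 0, -1, 1, 1, -1],
    [0, 0, 1, 0, -2, 1, 1, -1], [0, 0, 1, -1, -1, 1, 1, -1], [0, -1, 1, 1, -2, 1, 1, -1], [0, -1, 1, 0, -1, 1, 1, -1],
    [0, -1, 2, 0, -2, 1, 1, -1], [0, 0, -1, 0, 1, -1, -1, 0], [0, 0, -1, 1, 1, -2, 0, 1], [0, 0, -1, 0, 0, -1, 0, 0],
    [0, -1, -1, 1, 0, -1, 0, 0], [0, -1, 0, 1, -1, -1, 0, 0], [0, -1, 0, 0, 0, -1, 0, 0], [0, 1, -1, 0, 1, -1, 0, 0],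
    [0, 0, -1, 1, 1, -1, 0, 0], [0, 0, 0, 1, 0, -1, 0, 0], [0, 0, 0, 0, 1, -1, 0, 0], [0, 0, -1, 0, 0, 0, 0, -1],
    [0, 0, 0, 0, -1, 0, 0, -1], [0, 0, 0, -1, 0, 0, 0, -1], [0, -1, 0, 1, -1, 0, 0, -1], [0, -1, 0, 0, 0, 0, 0, -1],
    [0, -1, 1, 0, -1, 0, 0, -1], [0, 0, -1, 1, 0, -1, 1, 0], [0, 0, 0, 1, -1, -1, 1, 0], [0, 0, 0, 0, 0, -1, 1, 0],
    [0, -1, 0, 2, -1, -1, 1, 0], [0, -1, 0, 1, 0, -1, 1, 0], [0, -1, 1, 1, -1, -1, 1, 0], [0, -1, 0, 1, -2, 0, 1, -1],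
    [0, -1, 0, 0, -1, 0, 1, -1], [0, -1, 1, 0, -2, 0, 1, -1], [0, -2, 1, 1, -2, 0, 1, -1], [0, 0, 0, 1, -1, 0, 1, -1],
    [0, 0, 0, 0, 0, 0, 1, -1], [0, 0, 1, 0, -1, 0, 1, -1], [0, -1, 1, 1, -1, 0, 1, -1], [0, -1, 1, 0, -2, 1, 1, -2],
    [0, -1, 1, 1, -2, 0, 2, -1], [0, -1, 0, 1, -1, -1, 1, -1]]

/-- A reduced difference is small and nonzero. -/
def small (d : List ℤ) : Bool :=
  (d.length == 7) && (d.all fun x => decide (-4 ≤ x ∧ x ≤ 4)) && (d.any fun x => decide (x ≠ 0))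

/-- All ordered pairs of distinct positions reduce to small nonzero differences. -/
def pairsSmall : List (List ℤ) → Bool
  | [] => true
  | a :: l => (l.all fun b => small (redL a b) && small (redL b a)) && pairsSmall l

/-- The part of `pairsSmall` coming from the first `n` positions. -/
def headsSmall : ℕ → List (List ℤ) → Bool
  | n + 1, a :: l => (l.all fun b => small (redL a b) && small (redL b a)) && headsSmall n l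
  | _, _ => true

theorem pairsSmall_of_split : ∀ (n : ℕ) {L : List (List ℤ)}, headsSmall n L = true →
    pairsSmall (L.drop n) = true → pairsSmall L = true
  | 0, _, _, h => h
  | _ + 1, [], _, _ => rfl
  | n + 1, a :: l, h1, h2 => by
    simp only [headsSmall, Bool.and_eq_true] at h1
    simp only [pairsSmall, Bool.and_eq_true]
    exact ⟨h1.1, pairsSmall_of_split n h1.2 (by simpa using h2)⟩

end CfsgLib.RegTorus.E7
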