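import Cfsg.Agent.Lib.RegTorus.Centralizer
import Cfsg.Agent.Lib.RegTorus.RankOneMap
import Cfsg.Agent.Lib.ChevCover.Subsystem
import Cfsg.Agent.Lib.LangConnected.Chevalley

/-!
# Twisted maximal tori of Chevalley groups, through the simply connected group

For a word in the fundamental reflections and a parameter fixed by the reflected Frobenius, whose
powers exhaust all such parameters and which is regular, the corresponding element of the finite
group generates a self-centralising cyclic subgroup.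
-/

set_option autoImplicit false

namespace CfsgLib.RegTorus

open Cfsg.Lie CfsgLib.ChevStr CfsgLib.ChevStr.ChevCore CfsgLib.ChevField CfsgLib.ChevCover
  CfsgLib.ChevCover.Cover
open scoped MatrixGroups

universe u v

variable {D : ChevalleyDatum} {K : Type u} {F : Type v} [Field K] [Field F]

/-- The generators over the larger field. -/
def stGenMap (f : K →+* F) (p : Fin D.nroots × K) : D.SteinbergGroup F :=
  PresentedGroup.of (p.1, f p.2)

theorem lift_stGenMap_stX (f : K →+* F) (r : ℕ) (t : K) :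
    FreeGroup.lift (stGenMap (D := D) f) (D.stX r t) =
      PresentedGroup.mk (D.steinbergRels F) (D.stX r (f t)) := by
  unfold ChevalleyDatum.stX
  split_ifs with hr
  · simp [stGenMap, PresentedGroup.of]
  · rw [map_one, map_one]

theorem lift_stGenMap_rels (f : K →+* F) :
    ∀ g ∈ D.steinbergRels K, FreeGroup.lift (stGenMap (D := D) f) g = 1 := by
  have hword : ∀ w : List (ℕ × K), FreeGroup.lift (stGenMap (D := D) f) (D.stWord w) =
      PresentedGroup.mk (D.steinbergRels F) (D.stWord (w.map fun p => (p.1, f p.2))) := fun w => by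
    simp only [ChevalleyDatum.stWord, map_list_prod, List.map_map]
    exact congrArg List.prod (List.map_congr_left fun p _ => lift_stGenMap_stX f p.1 p.2)
  rintro g ((⟨r, t, u, hr, rfl⟩ | ⟨r, s, t, u, hr, hs, h1, h2, rfl⟩) | ⟨r, t, u, hr, ht, hu, rfl⟩)
  · simp only [map_mul, map_inv, lift_stGenMap_stX, map_add]
    have h := PresentedGroup.one_of_mem (rels := D.steinbergRels F)
      (x := D.stX r (f t) * D.stX r (f u) * (D.stX r (f t + f u))⁻¹)
      (Or.inl (Or.inl ⟨r, f t, f u, hr, rfl⟩))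
    simpa only [map_mul, map_inv] using h
  · have hc : ((D.commWord K r s t u).map fun p => (p.1, f p.2)) = D.commWord F r s (f t) (f u) := by
      simp only [ChevalleyDatum.commWord, List.map_map]
      exact List.map_congr_left fun c _ => by
        simp [map_mul, map_pow, map_neg, map_intCast]
    simp only [map_mul, map_inv, lift_stGenMap_stX, hword, hc]
    have h := PresentedGroup.one_of_mem (rels := D.steinbergRels F)
      (x := (D.stX s (f u))⁻¹ * (D.stX r (f t))⁻¹ * D.stX s (f u) * D.stX r (f t) *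
          (D.stWord (D.commWord F r s (f t) (f u)))⁻¹)
      (Or.inl (Or.inr ⟨r, s, f t, f u, hr, hs, h1, h2, rfl⟩))
    simpa only [map_mul, map_inv] using h
  · have hH : ∀ x : K, FreeGroup.lift (stGenMap (D := D) f) (D.stH r x) =
        PresentedGroup.mk (D.steinbergRels F) (D.stH r (f x)) := fun x => by
      have hw : ((D.hWord r x).map fun p : ℕ × K => (p.1, f p.2)) = D.hWord r (f x) := by
        simp [ChevalleyDatum.hWord, ChevalleyDatum.nWord, map_inv₀, map_neg, map_one]
      rw [ChevalleyDatum.stH, ChevalleyDatum.stH, hword, hw]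
    simp only [map_mul, map_inv, hH, map_mul]
    have h := PresentedGroup.one_of_mem (rels := D.steinbergRels F)
      (x := D.stH r (f t) * D.stH r (f u) * (D.stH r (f t * f u))⁻¹)
      (Or.inr ⟨r, f t, f u, hr, (map_ne_zero f).2 ht, (map_ne_zero f).2 hu, rfl⟩)
    simpa only [map_mul, map_inv] using h

/-- The map of Steinberg groups induced by a homomorphism of fields. -/
def stMap (f : K →+* F) : D.SteinbergGroup K →* D.SteinbergGroup F :=
  PresentedGroup.toGroup (lift_stGenMap_rels f)

theorem stMap_X (f : K →+* F) (CK : ChevCore D K) (CF : ChevCore D F) (r : ℕ) (t : K) :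
    stMap f ((steinberg CK).X r t) = (steinberg CF).X r (f t) := lift_stGenMap_stX f r t

theorem stMap_H (f : K →+* F) (CK : ChevCore D K) (CF : ChevCore D F) (i : Fin D.rank) (t : K) :
    stMap f ((steinberg CK).H (CK.pRoot i) t) = (steinberg CF).H (CF.pRoot i) (f t) := by
  have hn : ∀ x : K, stMap f ((steinberg CK).N (CK.pRoot i) x) =
      (steinberg CF).N (CF.pRoot i) (f x) := fun x => by
    simp only [Cover.N, Cover.negF, map_mul, stMap_X f CK CF, map_neg, map_inv₀]
    rfl
  rw [Cover.H, Cover.H, map_mul, hn, hn, map_neg, map_one]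

theorem stMap_comp_apply {L : Type*} [Field L] (f : K →+* F) (h : F →+* L)
    (x : D.SteinbergGroup K) : stMap h (stMap f x) = stMap (h.comp f) x := by
  have : (stMap (D := D) h).comp (stMap f) = stMap (h.comp f) := PresentedGroup.ext fun a => by
    simp [stMap, stGenMap]
  exact DFunLike.congr_fun this x

theorem θ_stMap (f : K →+* F) (CK : ChevCore D K) (CF : ChevCore D F) (x : D.SteinbergGroup K) :
    (steinberg CF).θ (stMap f x) = mapGL f ((steinberg CK).θ x) := by
  have : (steinberg CF).θ.comp (stMap f) = (mapGL f).comp (steinberg CK).θ :=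
    MonoidHom.eq_of_eqOn_dense (steinberg CK).gen (by
      rintro g ⟨r, t, rfl⟩
      rw [MonoidHom.comp_apply, MonoidHom.comp_apply, stMap_X f CK CF, (steinberg CF).θ_X,
        (steinberg CK).θ_X, mapGL_xGL_hom CF CK])
  exact DFunLike.congr_fun this x

theorem exists_lift (C : ChevCore D F) {g : GL D.Idx F} (hg : g ∈ D.group F) :
    ∃ x, (steinberg C).θ x = g := by
  have : D.group F ≤ (steinberg C).θ.range :=
    C.group_le fun r t _ => ⟨(steinberg C).X r t, (steinberg C).θ_X r t⟩
  exact this hg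

theorem θ_mem (C : ChevCore D F) (x : D.SteinbergGroup F) : (steinberg C).θ x ∈ D.group F := by
  have : ⊤ ≤ (D.group F).comap (steinberg C).θ := by
    rw [← (steinberg C).gen, Subgroup.closure_le]
    rintro g ⟨r, t, rfl⟩
    show (steinberg C).θ _ ∈ D.group F
    rw [(steinberg C).θ_X]
    exact C.xGL_mem_group _ _
  exact this (Subgroup.mem_top x)

/-- An embedding into a group with injective torus gives an injective torus of the Steinberg group. -/
theorem exists_torusHom_injective {E : ChevalleyDatum} (e : RootEmb D E) (CE : ChevCore E F)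
    (C : ChevCore D F) (hadj : HasNeighbours D) (hinj : Function.Injective (CE.R.torus (F := F))) :
    ∃ φ : (Fin D.rank → Fˣ) →* D.SteinbergGroup F, Function.Injective φ ∧
      (∀ i x, φ (Pi.mulSingle i x) = (steinberg C).H (C.pRoot i) (x : F)) ∧
      (steinberg C).θ.comp φ = C.R.torus ∧ (steinberg C).θ.ker ≤ φ.range := by
  classical
  obtain ⟨φ, hφ, hle⟩ := exists_torusHom C hadj
  refine ⟨φ, ?_, hφ, MonoidHom.pi_ext fun i x => ?_, fun z hz => hle ((steinberg C).ker_le_hbar hadj hz)⟩
  · refine (injective_iff_map_eq_one _).2 fun c hc => ?_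
    let proj : (Fin D.rank → Fˣ) →* (Fin E.rank → Fˣ) :=
      MonoidHom.mk' (fun c => ∏ i, Pi.mulSingle (e.node i) (c i)) fun a b => by
        simp only [Pi.mul_apply, Pi.mulSingle_mul, Finset.prod_mul_distrib]
    have h : (e.hom CE C).comp φ = CE.R.torus.comp proj := by
      refine MonoidHom.pi_ext fun i x => ?_
      rw [MonoidHom.comp_apply, MonoidHom.comp_apply, hφ, e.hom_H, RootData.torusSingle]
      congr 1
      show _ = ∏ j, Pi.mulSingle (M := fun _ => Fˣ) (e.node j) (Pi.mulSingle (M := fun _ => Fˣ) i x j)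
      rw [Fintype.prod_eq_single i fun j hj => by rw [Pi.mulSingle_eq_of_ne hj, Pi.mulSingle_one],
        Pi.mulSingle_eq_same]
    have h1 : CE.R.torus (proj c) = CE.R.torus 1 := by
      rw [map_one, ← MonoidHom.comp_apply, ← h, MonoidHom.comp_apply, hc, map_one]
    funext k
    have h2 : (∏ i, Pi.mulSingle (M := fun _ => Fˣ) (e.node i) (c i)) (e.node k) = 1 :=
      congrFun (hinj h1) (e.node k)
    rw [Finset.prod_apply, Fintype.prod_eq_single k fun j hj =>
      Pi.mulSingle_eq_of_ne (fun hh => hj (e.node_inj hh.symm)) _, Pi.mulSingle_eq_same] at h2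
    exact h2
  · rw [MonoidHom.comp_apply, hφ, (steinberg C).θ_H]
    exact C.hGL_simple i x

section fixed

variable (C : ChevCore D F) (σ : F ≃+* F) (f : K →+* F) (hf : ∀ x, σ x = x → ∃ a, f a = x)

include hf in
/-- A fixed element of the group is a torus element between elements over the fixed field. -/
theorem exists_fixed_decomp {g : GL D.Idx F} (hg : g ∈ D.group F)
    (h : mapGL σ.toRingHom g = g) :
    ∃ y₁ ∈ (D.group K).map (mapGL f), ∃ c, ∃ y₂ ∈ (D.group K).map (mapGL f),
      g = y₁ * C.R.torus c * y₂ := by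
  obtain ⟨w, hw, b, hb, n, hn, hnw, u, hu, rfl⟩ := C.normalForm_exists hg
  obtain ⟨n0, hn0, hacts⟩ := C.exists_rep hw
  have hn0m := C.rep_mem_monomial hn0
  have hd : n * n0⁻¹ ∈ D.diagonalSubgroup F :=
    C.mem_diagonal_of_moves_one (mul_mem hn (inv_mem hn0m))
      (by simpa using ChevCore.Moves.mul C hnw (ChevCore.Moves.inv C hn0m (ChevCore.Acts.moves C hacts)))
  have hb' : b * (n * n0⁻¹) ∈ D.borelSubgroup F :=
    mul_mem hb (le_sup_right (a := D.posUnipotent F) hd)
  rw [show b * n * u = b * (n * n0⁻¹) * n0 * u by group] at h ⊢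
  have hle : Subgroup.closure (Set.range C.nS) ≤
      MonoidHom.eqLocus (mapGL σ.toRingHom) (MonoidHom.id _) ⊓ (D.group K).map (mapGL f) := by
    rw [Subgroup.closure_le]
    rintro _ ⟨i, rfl⟩
    refine Subgroup.mem_inf.2 ⟨mapGL_nS C σ i, wordGL_mem_map C f fun p hp => ?_⟩
    simp only [ChevalleyDatum.nWord, List.mem_cons, List.not_mem_nil, or_false] at hp
    rcases hp with rfl | rfl | rfl <;>
      first
        | exact one_mem _
        | exact neg_mem (inv_mem (one_mem _))
  obtain ⟨hn0σ, hn0K⟩ := Subgroup.mem_inf.1 (hle hn0)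
  rw [map_mul, map_mul, show mapGL σ.toRingHom n0 = n0 from hn0σ] at h
  obtain ⟨hbf, huf⟩ := (C.normalForm_unique (mapGL_borel C σ hb') hb' hn0m hn0m
    (ChevCore.Acts.moves C hacts) (ChevCore.Acts.moves C hacts) (mapGL_Ucl C σ hu) hu h).2.2 rfl
  obtain ⟨v, hv, c, hvc⟩ := C.mem_borel.1 hb'
  rw [hvc, map_mul] at hbf
  have hdiag : ∀ d, C.R.torus d ∈ D.diagonalSubgroup F := fun d => by
    rw [C.diagonalSubgroup_eq]; exact ⟨d, rfl⟩
  have hσc : mapGL σ.toRingHom (C.R.torus c) ∈ D.diagonalSubgroup F := by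
    rw [mapGL_torus]; exact hdiag _
  have hvv : v⁻¹ * mapGL σ.toRingHom v = 1 := by
    refine (Subgroup.eq_bot_iff_forall _).1 C.posUnipotent_inf_diagonal _
      (Subgroup.mem_inf.2 ⟨mul_mem (inv_mem hv) (mapGL_posUnipotent C σ hv), ?_⟩)
    have : v⁻¹ * mapGL σ.toRingHom v =
        C.R.torus c * (mapGL σ.toRingHom (C.R.torus c))⁻¹ := by
      rw [eq_mul_inv_iff_mul_eq, mul_assoc, hbf, inv_mul_cancel_left]
    rw [this]
    exact mul_mem (hdiag _) (inv_mem hσc)
  exact ⟨v, Ucl_fixed C σ f hf C.R.isClosed_pos (by rwa [← C.posUnipotent_eq])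
      (inv_mul_eq_one.1 hvv).symm, c, n0 * u,
    mul_mem hn0K (Ucl_fixed C σ f hf (C.hR.invRoots_closed hw) hu huf), by rw [hvc]; group⟩

end fixed

/-- The action of a word of fundamental reflections on torus parameters. -/
def wordPar (C : ChevCore D F) : List (Fin D.rank) → (Fin D.rank → Fˣ) → Fin D.rank → Fˣ
  | [], c => c
  | i :: L, c => reflPar C i (wordPar C L c)

theorem wordPar_conj (C : ChevCore D F) : ∀ (L : List (Fin D.rank)) (c : Fin D.rank → Fˣ),
    (L.map C.nS).prod * C.R.torus c * ((L.map C.nS).prod)⁻¹ = C.R.torus (wordPar C L c)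
  | [], c => by simp [wordPar]
  | i :: L, c => by
    rw [List.map_cons, List.prod_cons]
    calc C.nS i * (L.map C.nS).prod * C.R.torus c * (C.nS i * (L.map C.nS).prod)⁻¹
        = C.nS i * ((L.map C.nS).prod * C.R.torus c * ((L.map C.nS).prod)⁻¹) * (C.nS i)⁻¹ := by
          group
      _ = _ := by
        rw [wordPar_conj C L c, C.nS_conj_torus]
        rfl

theorem wordPar_mul (C : ChevCore D F) : ∀ (L : List (Fin D.rank)) (c c' : Fin D.rank → Fˣ),
    wordPar C L (c * c') = wordPar C L c * wordPar C L c'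
  | [], _, _ => rfl
  | i :: L, c, c' => by
    simp only [wordPar, wordPar_mul C L c c', reflPar, C.R.torusChar_mul, mul_inv, Pi.mulSingle_mul]
    ac_rfl

/-- An element of the finite group generating a self-centralising subgroup, from a regular fixed
parameter of a twisted torus. -/
theorem exists_twisted_torus [IsAlgClosed F] (f : K →+* F) (CK : ChevCore D K) (C : ChevCore D F)
    (hadj : HasNeighbours D) {E : ChevalleyDatum} (e : RootEmb D E) (CE : ChevCore E F)
    (hinj : Function.Injective (CE.R.torus (F := F))) {m : ℕ} (hm : 0 < m)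
    (hker : ∀ c : Fin D.rank → Fˣ, C.R.torus c = 1 → c ^ m = 1)
    (σ : F ≃+* F) {q : ℕ} (hq : 1 < q) (hσ : ∀ x, σ x = x ^ q) (hσf : ∀ a, σ (f a) = f a)
    (hf : ∀ x, σ x = x → ∃ a, f a = x) (L : List (Fin D.rank)) (c0 : Fin D.rank → Fˣ)
    (hc0 : wordPar C L (c0 ^ q) = c0)
    (hgen : ∀ c, wordPar C L (c ^ q) = c → ∃ k : ℤ, c = c0 ^ k)
    (hreg : ∀ r < D.nroots, rootVal C c0 r ≠ 1)
    (hstab : ∀ w ∈ C.hR.weyl, (∀ s : Fin D.nroots, rootVal C c0 (w s) = rootVal C c0 s) → w = 1) :
    ∃ x : ↥(D.group K), orderOf x = orderOf (C.R.torus c0) ∧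
      Subgroup.centralizer (Subgroup.zpowers x : Set ↥(D.group K)) = Subgroup.zpowers x := by
  classical
  obtain ⟨φ, hφinj, hφH, hθφ, hkerφ⟩ := exists_torusHom_injective e CE C hadj hinj
  have hθ : ∀ c, (steinberg C).θ (φ c) = C.R.torus c := fun c => DFunLike.congr_fun hθφ c
  have hcentral : ∀ z, (steinberg C).θ z = 1 → ∀ x, x * z = z * x := fun z hz x =>
    Subgroup.mem_center_iff.1 ((steinberg C).ker_le_center hadj hz) x
  have htG : ∀ d : Fin D.rank → Fˣ, C.R.torus d ∈ D.group F := fun d =>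
    C.borel_le_group (C.torus_mem_borel d)
  set σh := σ.toRingHom
  have hσF : ∀ x, stMap σh (stMap f x) = stMap (D := D) f x := fun x => by
    rw [stMap_comp_apply, show σh.comp f = f from RingHom.ext hσf]
  have hφσ : ∀ c, stMap σh (φ c) = φ (c ^ q) := by
    have h : (stMap σh).comp φ = φ.comp (powMonoidHom q) := MonoidHom.pi_ext fun i x => by
      rw [MonoidHom.comp_apply, MonoidHom.comp_apply, powMonoidHom_apply, hφH, stMap_H σh C C,
        ← Pi.mulSingle_pow, hφH, Units.val_pow_eq_pow_val]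
      exact congrArg _ (hσ x)
    exact fun c => DFunLike.congr_fun h c
  -- the lift of the Weyl element and its action on the torus
  set a := (L.map C.nS).prod with ha
  have haG : a ∈ D.group F := Subgroup.list_prod_mem _ fun x hx => by
    obtain ⟨i, -, rfl⟩ := List.mem_map.1 hx
    exact C.nGL_mem_group _ _
  obtain ⟨g, hgG, hga⟩ := LangConnected.exists_lang_chevalley C hq (φ := σh) hσ haG
  obtain ⟨g', rfl⟩ := exists_lift C hgG
  set n := g'⁻¹ * stMap σh g' with hn
  have hθn : (steinberg C).θ n = a := by rw [hn, map_mul, map_inv, θ_stMap σh C C, hga]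
  have hnφ : ∀ c, n * φ c * n⁻¹ = φ (wordPar C L c) := by
    intro c
    set δ : (Fin D.rank → Fˣ) → D.SteinbergGroup F := fun c => (φ (wordPar C L c))⁻¹ * (n * φ c * n⁻¹)
    have hδker : ∀ c, (steinberg C).θ (δ c) = 1 := fun c => by
      simp only [δ, map_mul, map_inv, hθ, hθn, ha, wordPar_conj C L c]
      group
    have hmul := wordPar_mul C L
    have hδmul : ∀ c c', δ (c * c') = δ c * δ c' := fun c c' => by
      have hc := hcentral _ (hδker c) (φ (wordPar C L c'))⁻¹
      calc δ (c * c') = (φ (wordPar C L c'))⁻¹ * δ c * (n * φ c' * n⁻¹) := by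
            simp only [δ, hmul, map_mul, mul_inv_rev]; group
        _ = _ := by rw [hc]; simp only [δ]; group
    let δh : (Fin D.rank → Fˣ) →* D.SteinbergGroup F := MonoidHom.mk' δ hδmul
    have hroot : ∀ x : Fˣ, ∃ d : Fˣ, d ^ m = x := fun x => by
      obtain ⟨d, hd⟩ := IsAlgClosed.exists_pow_nat_eq (x : F) hm
      have hd0 : d ≠ 0 := fun h => x.ne_zero (by rw [← hd, h, zero_pow hm.ne'])
      exact ⟨Units.mk0 d hd0, Units.ext (by rw [Units.val_pow_eq_pow_val]; exact hd)⟩
    choose d hd using fun i => hroot (c i)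
    have hdc : d ^ m = c := funext hd
    obtain ⟨z, hz⟩ := hkerφ (MonoidHom.mem_ker.2 (hδker d))
    have h1 : δ c = 1 := by
      show δh c = 1
      rw [← hdc, map_pow, show δh d = φ z from hz.symm, ← map_pow,
        hker z (by rw [← hθ, hz]; exact hδker d), map_one]
    exact (inv_mul_eq_one.1 h1).symm
  have hσg : stMap σh g' = g' * n := by rw [hn, mul_inv_cancel_left]
  set X : (Fin D.rank → Fˣ) → D.SteinbergGroup F := fun c => g' * φ c * g'⁻¹ with hX
  have hσX : ∀ c, stMap σh (X c) = X (wordPar C L (c ^ q)) := fun c => by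
    simp only [hX]
    rw [map_mul, map_mul, map_inv, hσg, hφσ, ← hnφ]
    group
  have hXθ : ∀ c, (steinberg C).θ (X c) = (steinberg C).θ g' * C.R.torus c * ((steinberg C).θ g')⁻¹ := fun c => by
    simp only [hX, map_mul, map_inv, hθ]
  -- fixed elements of the simply connected group come from the smaller field
  have hdesc : ∀ x, stMap σh x = x → (steinberg C).θ x ∈ (D.group K).map (mapGL f) := by
    intro x hx
    obtain ⟨y₁, hy₁, c, y₂, hy₂, hxy⟩ := exists_fixed_decomp C σ f hf (θ_mem C x)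
      (by rw [← θ_stMap σh C C, hx])
    obtain ⟨u₁, hu₁, rfl⟩ := hy₁
    obtain ⟨u₂, hu₂, rfl⟩ := hy₂
    obtain ⟨w₁, rfl⟩ := exists_lift CK hu₁
    obtain ⟨w₂, rfl⟩ := exists_lift CK hu₂
    rw [← θ_stMap f CK C, ← θ_stMap f CK C] at hxy
    obtain ⟨z, hz⟩ := hkerφ (show (stMap f w₁)⁻¹ * x * (stMap f w₂)⁻¹ * (φ c)⁻¹ ∈ (steinberg C).θ.ker by
      rw [MonoidHom.mem_ker, map_mul, map_mul, map_mul, map_inv, map_inv, map_inv, hθ, hxy]
      group)
    have hx' : x = stMap f w₁ * φ (z * c) * stMap f w₂ := by rw [map_mul, hz]; group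
    rw [hx', map_mul, map_mul, hσF, hσF, hφσ, mul_left_inj, mul_right_inj] at hx
    have hzc := hφinj hx
    have hmem : φ (z * c) ∈ (stMap (D := D) f).range := by
      show z * c ∈ ((stMap (D := D) f).range).comap φ
      refine Subgroup.pi_mem_of_mulSingle_mem _ fun i => ?_
      obtain ⟨t, ht⟩ := hf ((z * c) i : Fˣ) (by
        rw [hσ, ← Units.val_pow_eq_pow_val, ← Pi.pow_apply, hzc])
      rw [Subgroup.mem_comap, hφH, ← ht]
      exact ⟨(steinberg CK).H (CK.pRoot i) t, stMap_H f CK C i t⟩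
    obtain ⟨w₀, hw₀⟩ := hmem
    rw [hx', ← hw₀, ← map_mul, ← map_mul, θ_stMap f CK C]
    exact ⟨_, θ_mem CK _, rfl⟩
  obtain ⟨xK, hxK, hxe⟩ := hdesc (X c0) (by rw [hσX, hc0])
  rw [hXθ] at hxe
  set x0 : ↥(D.group K) := ⟨xK, hxK⟩
  have hxpow : ∀ k : ℤ, mapGL f ((x0 ^ k : ↥(D.group K)) : GL D.Idx K) =
      (steinberg C).θ g' * C.R.torus (c0 ^ k) * ((steinberg C).θ g')⁻¹ := fun k => by
    rw [SubgroupClass.coe_zpow, map_zpow, hxe, conj_zpow, map_zpow]
  have hord : orderOf x0 = orderOf (C.R.torus c0) := by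
    rw [← Subgroup.orderOf_coe, ← orderOf_injective (mapGL f) (mapGL_injective f) (x0 : GL D.Idx K),
      hxe]
    exact orderOf_injective (MulAut.conj ((steinberg C).θ g')).toMonoidHom (MulAut.conj ((steinberg C).θ g')).injective _
  refine ⟨x0, hord, le_antisymm ?_ (Subgroup.le_centralizer (Subgroup.zpowers x0))⟩
  intro y hy
  have hxy : x0 * y = y * x0 :=
    Subgroup.mem_centralizer_iff.1 hy x0 (Subgroup.mem_zpowers x0)
  set Y := mapGL f (y : GL D.Idx K) with hY
  have hYG : Y ∈ D.group F := group_map_le f ⟨_, y.2, rfl⟩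
  have hcomm : Commute (C.R.torus c0) (((steinberg C).θ g')⁻¹ * Y * (steinberg C).θ g') := by
    have h : mapGL f xK * Y = Y * mapGL f xK := by
      rw [hY, ← map_mul, ← map_mul]
      exact congrArg _ (congrArg Subtype.val hxy)
    rw [hxe] at h
    show C.R.torus c0 * (((steinberg C).θ g')⁻¹ * Y * (steinberg C).θ g') = ((steinberg C).θ g')⁻¹ * Y * (steinberg C).θ g' * C.R.torus c0
    calc _ = ((steinberg C).θ g')⁻¹ * ((steinberg C).θ g' * C.R.torus c0 * ((steinberg C).θ g')⁻¹ * Y) * (steinberg C).θ g' := by group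
      _ = ((steinberg C).θ g')⁻¹ * (Y * ((steinberg C).θ g' * C.R.torus c0 * ((steinberg C).θ g')⁻¹)) * (steinberg C).θ g' := by rw [h]
      _ = _ := by group
  obtain ⟨c, hc⟩ := mem_torus_of_commute C hreg hstab
    (mul_mem (mul_mem (inv_mem hgG) hYG) hgG) hcomm
  have hYc : Y = (steinberg C).θ g' * C.R.torus c * ((steinberg C).θ g')⁻¹ := by rw [hc]; group
  obtain ⟨wy, hwy⟩ := exists_lift CK y.2
  obtain ⟨z, hz⟩ := hkerφ (show (X c)⁻¹ * stMap f wy ∈ (steinberg C).θ.ker by
    rw [MonoidHom.mem_ker, map_mul, map_inv, θ_stMap f CK C, hwy, hXθ, ← hY, hYc]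
    group)
  have hwy' : stMap f wy = X (c * z) := by
    have hzc : φ z * g'⁻¹ = g'⁻¹ * φ z :=
      (hcentral _ (by rw [hz, map_mul, map_inv, θ_stMap f CK C, hwy, hXθ, ← hY, hYc]; group) _).symm
    calc stMap f wy = X c * φ z := by rw [hz, mul_inv_cancel_left]
      _ = g' * φ c * (g'⁻¹ * φ z) := by simp only [hX, mul_assoc]
      _ = X (c * z) := by rw [← hzc]; simp only [hX, map_mul, mul_assoc]
  have hfix : X (wordPar C L ((c * z) ^ q)) = X (c * z) := by
    rw [← hσX, ← hwy', hσF]
  simp only [hX, mul_left_inj, mul_right_inj] at hfix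
  obtain ⟨k, hk⟩ := hgen _ (hφinj hfix)
  refine ⟨k, Subtype.ext (mapGL_injective f ?_)⟩
  show mapGL f ((x0 ^ k : ↥(D.group K)) : GL D.Idx K) = Y
  rw [hxpow, ← hk, hY, ← hwy, ← θ_stMap f CK C, hwy', hXθ]

end CfsgLib.RegTorus
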